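import Cfsg.Agent.OddLocal.Factor
import Cfsg.Agent.Invol.StronglyEmbedded
import Cfsg.Agent.Coprime.Generation
import Cfsg.Agent.S0144
import Cfsg.Agent.S0205

/-!
# Groups whose even element orders are `2` and `2p`

Basic consequences of: every element of even order has order `2` or `2p`, every element of order
divisible by `p` has order `p` or `2p`.
-/

set_option autoImplicit false

namespace Cfsg.Agent.H73.TwoP

open Subgroup
open scoped Pointwise

/-- The two order conditions. -/
structure Hyp (G : Type*) [Group G] (p : ℕ) : Prop where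
  hp : p.Prime
  hp2 : p ≠ 2
  even : ∀ g : G, 2 ∣ orderOf g → orderOf g = 2 ∨ orderOf g = 2 * p
  dvd : ∀ g : G, p ∣ orderOf g → orderOf g = p ∨ orderOf g = 2 * p

variable {G : Type*} [Group G] {p : ℕ}

namespace Hyp

variable (H : Hyp G p)
include H

theorem odd_p : Odd p := H.hp.odd_of_ne_two H.hp2

/-- An element of odd order commuting with an involution satisfies `x ^ p = 1`. -/
theorem pow_p_eq_one {t x : G} (ht : orderOf t = 2) (hc : Commute t x) (hx : Odd (orderOf x)) :
    x ^ p = 1 := by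
  have hco : (orderOf t).Coprime (orderOf x) := by rw [ht]; exact Nat.coprime_two_left.2 hx
  have ho := hc.orderOf_mul_eq_mul_orderOf_of_coprime hco
  rw [ht] at ho
  rcases H.even (t * x) (ho ▸ dvd_mul_right 2 _) with h | h
  · rw [ho] at h
    have h1 : orderOf x = 1 := by omega
    rw [orderOf_eq_one_iff] at h1
    simp [h1]
  · rw [ho] at h
    have h1 : orderOf x = p := by omega
    rw [← h1, pow_orderOf_eq_one]

/-- A two-element squares to one. -/
theorem mul_self_eq_one {g : G} {k : ℕ} (hg : g ^ (2 ^ k) = 1) : g * g = 1 := by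
  obtain ⟨j, -, hj⟩ := (Nat.dvd_prime_pow Nat.prime_two).1 (orderOf_dvd_of_pow_eq_one hg)
  rcases j with _ | j
  · rw [pow_zero, orderOf_eq_one_iff] at hj; simp [hj]
  rcases H.even g (hj ▸ dvd_pow_self 2 (by omega)) with h | h
  · rw [← pow_two, ← h, pow_orderOf_eq_one]
  · exfalso
    have : p ∣ 2 ^ (j + 1) := hj ▸ h ▸ dvd_mul_left p 2
    exact H.hp2 ((Nat.prime_dvd_prime_iff_eq H.hp Nat.prime_two).1 (H.hp.dvd_of_dvd_pow this))

theorem mul_self_of_mem_pGroup {P : Subgroup G} (hP : IsPGroup 2 P) {g : G} (hg : g ∈ P) :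
    g * g = 1 := by
  obtain ⟨k, hk⟩ := hP ⟨g, hg⟩
  exact H.mul_self_eq_one (k := k) (by simpa [Subtype.ext_iff] using hk)

theorem commute_of_mem_pGroup {P : Subgroup G} (hP : IsPGroup 2 P) {a b : G} (ha : a ∈ P)
    (hb : b ∈ P) : Commute a b := by
  have h1 := H.mul_self_of_mem_pGroup hP (mul_mem ha hb)
  have e : ∀ c ∈ P, c⁻¹ = c := fun c hc => inv_eq_of_mul_eq_one_left (H.mul_self_of_mem_pGroup hP hc)
  show a * b = b * a
  calc a * b = (a * b)⁻¹ := (e _ (mul_mem ha hb)).symm
    _ = b⁻¹ * a⁻¹ := mul_inv_rev a b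
    _ = b * a := by rw [e a ha, e b hb]

/-- A `p`-element has order at most `p`. -/
theorem pow_p_of_pElem {g : G} {k : ℕ} (hg : g ^ (p ^ k) = 1) : g ^ p = 1 := by
  obtain ⟨j, -, hj⟩ := (Nat.dvd_prime_pow H.hp).1 (orderOf_dvd_of_pow_eq_one hg)
  rcases j with _ | j
  · rw [pow_zero, orderOf_eq_one_iff] at hj; simp [hj]
  rcases H.dvd g (hj ▸ dvd_pow_self p (by omega)) with h | h
  · rw [← h, pow_orderOf_eq_one]
  · exfalso
    have : 2 ∣ p ^ (j + 1) := hj ▸ h ▸ dvd_mul_right 2 p
    exact H.hp2 ((Nat.prime_dvd_prime_iff_eq Nat.prime_two H.hp).1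
      (Nat.prime_two.dvd_of_dvd_pow this)).symm

/-- Nothing of odd prime order other than `p` commutes with an element of order `p`. -/
theorem eq_p_of_commute {x y : G} (hx : orderOf x = p) (hc : Commute x y) (hy : Odd (orderOf y))
    (hyp : ¬ p ∣ orderOf y) : y = 1 := by
  have hco : (orderOf x).Coprime (orderOf y) := by
    rw [hx]; exact (H.hp.coprime_iff_not_dvd).2 hyp
  have ho := hc.orderOf_mul_eq_mul_orderOf_of_coprime hco
  rw [hx] at ho
  rcases H.dvd (x * y) (ho ▸ dvd_mul_right p _) with h | h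
  · rw [ho, Nat.mul_eq_left H.hp.ne_zero] at h
    exact orderOf_eq_one_iff.1 h
  · rw [ho, mul_comm 2 p] at h
    have h2 := Nat.eq_of_mul_eq_mul_left H.hp.pos h
    rw [h2] at hy
    exact absurd hy (by decide)

variable [Finite G]

/-- An odd subgroup centralizing an involution is a `p`-group of exponent `p`. -/
theorem isPGroup_of_le_centralizer {t : G} (ht : orderOf t = 2) {X : Subgroup G}
    (hX : X ≤ centralizer ({t} : Set G)) (hodd : Odd (Nat.card X)) :
    IsPGroup p X := by
  intro x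
  refine ⟨1, Subtype.ext ?_⟩
  have h1 : Odd (orderOf (x : G)) :=
    hodd.of_dvd_nat (X.orderOf_dvd_natCard x.2)
  simpa using H.pow_p_eq_one ht (mem_centralizer_singleton_iff.1 (hX x.2)).symm h1

/-- Centralizers of elements of order `2` or `p` are soluble. -/
theorem isSolvable_centralizer {x : G} (hx : orderOf x = 2 ∨ orderOf x = p) :
    Group.IsSolvable (centralizer ({x} : Set G)) := by
  set C := centralizer ({x} : Set G)
  have hpr : ∀ r : ℕ, r.Prime → r ∣ Nat.card C → r = 2 ∨ r = p := by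
    intro r hr hrd
    haveI := Fact.mk hr
    obtain ⟨y, hy⟩ := exists_prime_orderOf_dvd_card' r hrd
    rw [← Subgroup.orderOf_coe] at hy
    have hc : Commute x (y : G) := (mem_centralizer_singleton_iff.1 y.2).symm
    rcases eq_or_ne r 2 with h | h
    · exact Or.inl h
    refine Or.inr (by_contra fun hrp => ?_)
    have hodd : Odd (orderOf (y : G)) := hy ▸ hr.odd_of_ne_two h
    rcases hx with hx | hx
    · have := orderOf_dvd_of_pow_eq_one (H.pow_p_eq_one hx hc hodd)
      rw [hy, Nat.prime_dvd_prime_iff_eq hr H.hp] at this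
      exact hrp this
    · have := H.eq_p_of_commute hx hc hodd
        (by rw [hy, Nat.prime_dvd_prime_iff_eq H.hp hr]; exact Ne.symm hrp)
      rw [this, orderOf_one] at hy
      exact hr.ne_one hy.symm
  obtain ⟨a, m, hm, hcard⟩ :=
    Nat.exists_eq_pow_mul_and_not_dvd (n := Nat.card C) Nat.card_pos.ne' 2 (by decide)
  have hm0 : m ≠ 0 := fun h => hm (h ▸ dvd_zero 2)
  have hmp := Nat.eq_prime_pow_of_unique_prime_dvd (p := p) hm0 fun {q} hq hqm => by
    rcases hpr q hq (hcard ▸ hqm.trans (dvd_mul_left m _)) with h | h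
    · exact absurd (h ▸ hqm) hm
    · exact h
  exact Cfsg.Agent.S0144.result 2 p a m.primeFactorsList.length Nat.prime_two H.hp
    (by rw [hcard, ← hmp])

end Hyp

/-! ### Soluble groups with an abelian Sylow 2-subgroup -/

section Core

variable [Finite G]

/-- In a soluble group with abelian Sylow 2-subgroup `S`, `G = O(G) N(S)`. -/
theorem oddCore_sup_normalizer {Q : Type*} [Group Q] [Finite Q] [Group.IsSolvable Q]
    (S : Sylow 2 Q) (hS : IsMulCommutative (S : Subgroup Q)) :
    Cfsg.pPrimeCore 2 Q ⊔ normalizer ((S : Subgroup Q) : Set Q) = ⊤ := by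
  haveI : Fact (Nat.Prime 2) := ⟨Nat.prime_two⟩
  set N := Cfsg.pPrimeCore 2 Q with hN
  haveI hNn : N.Normal := inferInstanceAs (Cfsg.pPrimeCore 2 Q).Normal
  set q := QuotientGroup.mk' N
  set Pb := Cfsg.pCore 2 (Q ⧸ N)
  have h1 : Pb ≤ (S : Subgroup Q).map q := by
    have h := Cores.pCore_le_sylow (S.mapSurjective (QuotientGroup.mk'_surjective N))
    rwa [Sylow.coe_mapSurjective] at h
  have h2 : (S : Subgroup Q).map q ≤ Pb := by
    refine le_trans ?_ OddLocal.charP_quotient_pPrimeCore
    intro y hy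
    rw [Subgroup.mem_centralizer_iff]
    intro b hb
    obtain ⟨s, hs, rfl⟩ := hy
    obtain ⟨s', hs', rfl⟩ := h1 hb
    have : (⟨s', hs'⟩ : (S : Subgroup Q)) * ⟨s, hs⟩ = ⟨s, hs⟩ * ⟨s', hs'⟩ := hS.is_comm.comm _ _
    rw [← map_mul, ← map_mul]
    exact congrArg q (congrArg Subtype.val this)
  have he : (S : Subgroup Q).map q = Pb := le_antisymm h2 h1
  set K : Subgroup Q := Pb.comap q with hK
  haveI : Pb.Normal := inferInstanceAs (Cfsg.pCore 2 (Q ⧸ N)).Normal
  haveI hKn : K.Normal := Subgroup.Normal.comap inferInstance q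
  have hSK : (S : Subgroup Q) ≤ K := fun s hs => by
    show q s ∈ Pb
    rw [← he]; exact ⟨s, hs, rfl⟩
  have hKNS : K ≤ N ⊔ (S : Subgroup Q) := by
    intro k hk
    have : q k ∈ (S : Subgroup Q).map q := by rw [he]; exact hk
    obtain ⟨s, hs, hsk⟩ := this
    have hm : k * s⁻¹ ∈ N := by
      rw [← QuotientGroup.ker_mk' N]
      show q (k * s⁻¹) = 1
      rw [map_mul, map_inv, ← hsk, mul_inv_cancel]
    simpa using mul_mem (mem_sup_left hm) (mem_sup_right (S := N) hs)
  have htop := Sylow.normalizer_sup_eq_top' S hSK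
  rw [eq_top_iff, ← htop]
  exact sup_le le_sup_right (hKNS.trans (sup_le le_sup_left (Subgroup.le_normalizer.trans le_sup_right)))

/-- `O(C)` as a subgroup of the ambient group. -/
def core (C : Subgroup G) : Subgroup G := (Cfsg.pPrimeCore 2 C).map C.subtype

theorem core_le (C : Subgroup G) : core C ≤ C := map_subtype_le _

theorem odd_card_core (C : Subgroup G) : Odd (Nat.card (core C)) := by
  haveI : Fact (Nat.Prime 2) := ⟨Nat.prime_two⟩
  rw [core, card_map_of_injective C.subtype_injective]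
  exact (Nat.coprime_two_right.1 Cores.pPrimeCore_coprime)

theorem le_normalizer_core (C : Subgroup G) : C ≤ normalizer (core C : Set G) := by
  have h : (⊤ : Subgroup C) ≤ normalizer (Cfsg.pPrimeCore 2 ↥C : Set C) := by
    rw [Subgroup.normalizer_eq_top]
  intro c hc
  have h2 := Subgroup.le_normalizer_map C.subtype (mem_map_of_mem C.subtype (h (mem_top (⟨c, hc⟩ : C))))
  exact h2

/-- A Sylow 2-subgroup of `G` inside `C` gives one of `C`. -/
theorem le_core {C : Subgroup G} [Group.IsSolvable C] {S : Sylow 2 G} (hSC : (S : Subgroup G) ≤ C)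
    {Y : Subgroup G} (hYC : Y ≤ C) (hY : Odd (Nat.card Y))
    (hSY : (S : Subgroup G) ≤ normalizer (Y : Set G)) : Y ≤ core C := by
  haveI : Fact (Nat.Prime 2) := ⟨Nat.prime_two⟩
  have h := OddLocal.le_pPrimeCore_of_sylow (S.subtype hSC) (Y := Y.subgroupOf C) (fun s hs => by
      rw [Sylow.coe_subtype, mem_subgroupOf] at hs
      have := hSY hs
      rw [Subgroup.mem_normalizer_iff] at this ⊢
      intro n
      simpa [mem_subgroupOf] using this n)
    (by
      rw [Nat.card_congr (Subgroup.subgroupOfEquivOfLe hYC).toEquiv]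
      exact Nat.coprime_two_right.2 hY)
  intro y hy
  exact ⟨⟨y, hYC hy⟩, h (mem_subgroupOf.2 hy), rfl⟩

/-- Frattini form: `C ≤ O(C) N_C(S)`. -/
theorem le_core_sup {C : Subgroup G} [Group.IsSolvable C] (S : Sylow 2 C)
    (hS : IsMulCommutative (S : Subgroup C)) :
    C ≤ core C ⊔ (C ⊓ normalizer (((S : Subgroup C).map C.subtype : Subgroup G) : Set G)) := by
  intro c hc
  have h := oddCore_sup_normalizer S hS
  have h2 : (⟨c, hc⟩ : C) ∈ Cfsg.pPrimeCore 2 C ⊔ normalizer ((S : Subgroup C) : Set C) := by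
    rw [h]; exact mem_top _
  have h3 := mem_map_of_mem C.subtype h2
  rw [Subgroup.map_sup] at h3
  refine (sup_le_sup le_rfl (le_inf (map_subtype_le _) (Subgroup.le_normalizer_map C.subtype))) h3

end Core

end Cfsg.Agent.H73.TwoP
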