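import Cfsg.Agent.H73.TwoP.SE

/-!
# Involutions outside `N(E)`

`M = N(E)` contains every centraliser of an involution of `E`.
-/

set_option autoImplicit false

namespace Cfsg.Agent.H73.TwoP

open Subgroup

variable {G : Type*} [Group G] [Finite G] {p : ℕ}

/-- The setting of the counting argument. -/
structure Ctx (E : Sylow 2 G) (p : ℕ) : Prop where
  H : Hyp G p
  hns : ¬ (Nat.card G).Prime
  hcard : 4 ≤ Nat.card (E : Subgroup G)
  hC : ∀ t ∈ (E : Subgroup G), t ≠ 1 →
    centralizer ({t} : Set G) ≤ normalizer ((E : Subgroup G) : Set G)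

namespace Ctx

variable {E : Sylow 2 G} [IsSimpleGroup G] (D : Ctx E p)
include D

local notation "M" => normalizer ((E : Subgroup G) : Set G)
local notation "Q" => centralizer ((E : Subgroup G) : Set G)

theorem exists_ne_one : ∃ z ∈ (E : Subgroup G), z ≠ 1 := by
  by_contra h
  push Not at h
  have : (E : Subgroup G) = ⊥ := (eq_bot_iff_forall _).2 h
  have := D.hcard
  simp_all

theorem not_comm : ¬ IsMulCommutative G := SmallGroups.not_isMulCommutative D.hns

theorem ne_top : M ≠ ⊤ := by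
  intro h
  have hn : (E : Subgroup G).Normal := normalizer_eq_top_iff.1 h
  obtain ⟨z, hz, hz1⟩ := D.exists_ne_one
  rcases hn.eq_bot_or_eq_top with hb | ht
  · exact hz1 (mem_bot.1 (hb ▸ hz))
  · exact D.not_comm ⟨⟨fun a b => (D.H.commute_of_mem_pGroup E.2 (ht ▸ mem_top a) (ht ▸ mem_top b)).eq⟩⟩

theorem setting : SESetting E M := ⟨le_rfl, D.hC, D.ne_top⟩

theorem commute_E {a b : G} (ha : a ∈ (E : Subgroup G)) (hb : b ∈ (E : Subgroup G)) : a * b = b * a :=
  (D.H.commute_of_mem_pGroup E.2 ha hb).eq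

theorem conj_mem_E {g a : G} (hg : g ∈ M) (ha : a ∈ (E : Subgroup G)) :
    g * a * g⁻¹ ∈ (E : Subgroup G) := (mem_normalizer_iff.1 hg a).1 ha

theorem invol_mem {t : G} (ht : orderOf t = 2) (htM : t ∈ M) : t ∈ (E : Subgroup G) := by
  obtain ⟨m, hm, h⟩ := D.setting.exists_conj_mem ht htM
  have := D.conj_mem_E (inv_mem hm) h
  simpa [mul_assoc] using this

theorem mem_of_conj {g t : G} (ht : orderOf t = 2) (htM : t ∈ M) (hg : g⁻¹ * t * g ∈ M) : g ∈ M :=
  D.setting.mem_of_conj D.H ht htM hg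

theorem centralizer_le {x : G} (hx : ∀ e ∈ (E : Subgroup G), x * e = e * x) (hxo : orderOf x = p) :
    centralizer ({x} : Set G) ≤ M := by
  obtain ⟨z, hz, hz1⟩ := D.exists_ne_one
  obtain ⟨b, hb, hb1, hbz⟩ : ∃ b ∈ (E : Subgroup G), b ≠ 1 ∧ b ≠ z := by
    by_contra h
    push Not at h
    have hsub : ((E : Subgroup G) : Set G) ⊆ {1, z} := fun b hb => by
      by_cases h1 : b = 1
      · exact Or.inl h1
      · exact Or.inr (h b hb h1)
    have := Set.ncard_le_ncard hsub (Set.toFinite _)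
    rw [← Nat.card_coe_set_eq] at this
    have h2 : ({1, z} : Set G).ncard ≤ 2 := by
      rw [Set.ncard_pair (Ne.symm hz1)]
    have := D.hcard
    simp only [SetLike.coe_sort_coe] at *
    omega
  exact D.setting.centralizer_le_of_two D.H hxo hb hz hb1 hz1 hbz (hx b hb) (hx z hz)

variable {u : G} (hu : orderOf u = 2) (huM : u ∉ normalizer ((E : Subgroup G) : Set G))

omit D in
theorem conj_invol_mem_iff {g x : G} : g * x * g⁻¹ ∈ M ↔ x ∈ (M).comap (MulAut.conj g).toMonoidHom :=
  Iff.rfl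

include hu huM

theorem conj_notMem {e : G} (he : e ∈ (E : Subgroup G)) (he1 : e ≠ 1) : u * e * u ∉ M := fun h =>
  huM (D.mem_of_conj (D.H.orderOf_mem he he1) (le_normalizer he)
    (by rwa [Invol.inv_eq hu]))

/-- Elements of `M ∩ uMu` have odd order. -/
theorem odd_of_mem {x : G} (hx : x ∈ M) (hux : u * x * u ∈ M) : Odd (orderOf x) := by
  rw [← Nat.not_even_iff_odd]
  intro he
  set t := x ^ (orderOf x / 2)
  have ht : orderOf t = 2 := Invol.pow_half_eq_two (orderOf_pos _) he
  have htM : t ∈ M := pow_mem hx _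
  refine D.conj_notMem hu huM (D.invol_mem ht htM) (Invol.inv_ne_one ht) ?_
  have : u * t * u = (u * x * u) ^ (orderOf x / 2) := by
    have h := conj_pow (a := u) (b := x) (i := orderOf x / 2)
    rw [Invol.inv_eq hu] at h
    exact h.symm
  rw [this]
  exact pow_mem hux _

/-- `h ↦ h⁻¹ z h` is injective on the inverted elements. -/
theorem inv_conj_inj {z h1 h2 : G} (hz : z ∈ (E : Subgroup G)) (hz1 : z ≠ 1)
    (m1 : h1 ∈ M) (i1 : u * h1 * u = h1⁻¹) (m2 : h2 ∈ M) (i2 : u * h2 * u = h2⁻¹)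
    (he : h1⁻¹ * z * h1 = h2⁻¹ * z * h2) : h1 = h2 := by
  set k := h2 * h1⁻¹ with hk
  set v := h1 * u with hv
  have hvM : v ∉ M := fun h => huM (by simpa [hv] using mul_mem (inv_mem m1) h)
  have hvv : v * v = 1 := by
    calc v * v = h1 * (u * h1 * u) := by rw [hv]; group
      _ = 1 := by rw [i1, mul_inv_cancel]
  have hvo : orderOf v = 2 := Invol.orderOf_eq_two hvv (fun h => hvM (h ▸ one_mem _))
  have hzo := D.H.orderOf_mem hz hz1
  obtain ⟨n, hn⟩ := D.setting.odd_mul D.H hzo (le_normalizer hz) hvo hvM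
  have hvk : v * k * v = k⁻¹ := by
    calc v * k * v = h1 * (u * h2 * u) := by rw [hv, hk]; group
      _ = k⁻¹ := by rw [i2, hk]; group
  have hzk : z * k * z = k := by
    have h3 : k * z = z * k := by
      rw [hk]
      calc h2 * h1⁻¹ * z = h2 * (h1⁻¹ * z * h1) * h1⁻¹ := by group
        _ = z * (h2 * h1⁻¹) := by rw [he]; group
    rw [← h3, mul_assoc, Invol.inv_mul_self hzo, mul_one]
  have hstep : (z * v) * k * (z * v)⁻¹ = k⁻¹ := by
    rw [mul_inv_rev, Invol.inv_eq hvo, Invol.inv_eq hzo]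
    have hz' := Invol.inv_eq hzo
    calc z * v * k * (v * z) = z * (v * k * v) * z := by group
      _ = z * k⁻¹ * z := by rw [hvk]
      _ = z⁻¹ * k⁻¹ * z⁻¹ := by rw [hz']
      _ = (z * k * z)⁻¹ := by group
      _ = k⁻¹ := by rw [hzk]
  have hflip : ∀ a : G, a * k * a⁻¹ = k⁻¹ → ∀ j : ℕ, a ^ (2 * j) * k * (a ^ (2 * j))⁻¹ = k := by
    intro a ha j
    induction j with
    | zero => simp
    | succ j ih =>
      calc a ^ (2 * (j + 1)) * k * (a ^ (2 * (j + 1)))⁻¹
          = a * (a * (a ^ (2 * j) * k * (a ^ (2 * j))⁻¹) * a⁻¹) * a⁻¹ := by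
            rw [show 2 * (j + 1) = 2 * j + 1 + 1 by ring, pow_succ', pow_succ']
            simp only [mul_inv_rev, mul_assoc]
        _ = a * k⁻¹ * a⁻¹ := by rw [ih, ha]
        _ = k := by rw [← conj_inv, ha, inv_inv]
  have hkk : k = k⁻¹ := by
    have h0 : (z * v) ^ orderOf (z * v) * k * ((z * v) ^ orderOf (z * v))⁻¹ = k := by
      rw [pow_orderOf_eq_one]; group
    rw [hn, pow_succ', mul_inv_rev] at h0
    have h1' : (z * v) * ((z * v) ^ (2 * n) * k * ((z * v) ^ (2 * n))⁻¹) * (z * v)⁻¹ = k := by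
      simp only [mul_assoc] at h0 ⊢; exact h0
    rw [hflip _ hstep, hstep] at h1'
    exact h1'.symm
  have hkM : k ∈ M := mul_mem m2 (inv_mem m1)
  have hukM : u * k * u ∈ M := by
    have : u * k * u = h2⁻¹ * h1 := by
      calc u * k * u = (u * h2 * u) * (u * h1 * u)⁻¹ := by
            have e : (u * h2 * u) * (u * h1 * u)⁻¹ = u * h2 * h1⁻¹ * u⁻¹ := by group
            rw [e, Invol.inv_eq hu, hk]; simp only [mul_assoc]
        _ = h2⁻¹ * h1 := by rw [i1, i2, inv_inv]
    rw [this]; exact mul_mem (inv_mem m2) m1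
  obtain ⟨j, hj⟩ := D.odd_of_mem hu huM hkM hukM
  have hk1 : k = 1 := by
    have h4 := pow_orderOf_eq_one k
    have h5 : k ^ 2 = 1 := by rw [pow_two]; nth_rewrite 2 [hkk]; exact mul_inv_cancel k
    rw [hj, pow_succ, pow_mul, h5, one_pow, one_mul] at h4
    exact h4
  rw [hk, mul_inv_eq_one] at hk1
  exact hk1.symm

omit hu huM

theorem isConj_invol {t z : G} (ht : orderOf t = 2) (hz : z ∈ (E : Subgroup G)) (hz1 : z ≠ 1) :
    IsConj z t := by
  have hzo := D.H.orderOf_mem hz hz1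
  by_cases htM : t ∈ M
  · obtain ⟨g, -, hg⟩ := D.setting.transitive D.H hz (D.invol_mem ht htM) hz1 (Invol.inv_ne_one ht)
    exact isConj_iff.2 ⟨g, hg⟩
  · exact Invol.isConj_of_odd hzo ht (D.setting.odd_mul D.H hzo (le_normalizer hz) ht htM)

/-- The count: every coset outside `M` has exactly `|E| - 1` involutions. -/
theorem fiber_surjective :
    (∀ g : G, g ∉ M → ∃ u : G, orderOf u = 2 ∧ u ∉ M ∧ u⁻¹ * g ∈ M) ∧
    ∀ u : G, orderOf u = 2 → u ∉ M → ∀ z ∈ (E : Subgroup G), z ≠ 1 →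
      ∀ e ∈ (E : Subgroup G), e ≠ 1 →
        ∃ h ∈ M, u * h * u = h⁻¹ ∧ h⁻¹ * z * h = e := by
  classical
  letI := Fintype.ofFinite G
  letI := Fintype.ofFinite (G ⧸ M)
  set Es : Finset G := Finset.univ.filter (fun e => e ∈ (E : Subgroup G) ∧ e ≠ 1) with hEs
  have hEsmem : ∀ e, e ∈ Es ↔ e ∈ (E : Subgroup G) ∧ e ≠ 1 := fun e => by simp [hEs]
  set I : Finset G := Finset.univ.filter (fun t => orderOf t = 2) with hI
  set x0 : G ⧸ M := QuotientGroup.mk 1
  -- the involutions are the conjugates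
  have hcardI : I.card = Fintype.card (G ⧸ M) * Es.card := by
    rw [← Finset.card_univ, ← Finset.card_product]
    refine (Finset.card_bij (fun (a : (G ⧸ M) × G) _ => a.1.out * a.2 * a.1.out⁻¹) ?_ ?_ ?_).symm
    · intro a ha
      simp only [Finset.mem_product, hEsmem] at ha
      simp only [hI, Finset.mem_filter, Finset.mem_univ, true_and]
      rw [Invol.orderOf_conj]
      exact D.H.orderOf_mem ha.2.1 ha.2.2
    · intro a ha b hb hab
      simp only [Finset.mem_product, hEsmem] at ha hb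
      have hk : a.1.out⁻¹ * b.1.out ∈ M := by
        refine D.mem_of_conj (D.H.orderOf_mem ha.2.1 ha.2.2) (le_normalizer ha.2.1) ?_
        have : (a.1.out⁻¹ * b.1.out)⁻¹ * a.2 * (a.1.out⁻¹ * b.1.out) = b.2 := by
          calc _ = b.1.out⁻¹ * (a.1.out * a.2 * a.1.out⁻¹) * b.1.out := by group
            _ = b.2 := by rw [hab]; group
        rw [this]; exact le_normalizer hb.2.1
      have h1 : a.1 = b.1 := by
        rw [← QuotientGroup.out_eq' a.1, ← QuotientGroup.out_eq' b.1, QuotientGroup.eq]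
        exact hk
      rw [h1] at hab
      exact Prod.ext h1 (mul_left_cancel (mul_right_cancel hab))
    · intro t ht
      simp only [hI, Finset.mem_filter, Finset.mem_univ, true_and] at ht
      obtain ⟨z, hz, hz1⟩ := D.exists_ne_one
      obtain ⟨g, hg⟩ := isConj_iff.1 (D.isConj_invol ht hz hz1)
      set x : G ⧸ M := QuotientGroup.mk g
      have hk : x.out⁻¹ * g ∈ M := QuotientGroup.eq.1 (QuotientGroup.out_eq' x)
      refine ⟨(x, x.out⁻¹ * g * z * (x.out⁻¹ * g)⁻¹), ?_, ?_⟩
      · simp only [Finset.mem_product, Finset.mem_univ, true_and, hEsmem]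
        exact ⟨D.conj_mem_E hk hz, fun h => hz1 (conj_eq_one_iff.1 h)⟩
      · rw [← hg]; group
  set Iout : Finset G := I.filter (fun t => t ∉ M)
  have hin : I.filter (fun t => t ∈ M) = Es := by
    ext t
    simp only [hI, Finset.mem_filter, Finset.mem_univ, true_and, hEsmem]
    exact ⟨fun h => ⟨D.invol_mem h.1 h.2, Invol.inv_ne_one h.1⟩,
      fun h => ⟨D.H.orderOf_mem h.1 h.2, le_normalizer h.1⟩⟩
  have hout : Iout.card + Es.card = Fintype.card (G ⧸ M) * Es.card := by
    have := Finset.card_filter_add_card_filter_not (s := I) (fun t => t ∈ M)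
    rw [hin, hcardI] at this
    simp only [Iout]
    omega
  set Ω' : Finset (G ⧸ M) := Finset.univ.erase x0
  have hmaps : ∀ t ∈ Iout, (QuotientGroup.mk t : G ⧸ M) ∈ Ω' := by
    intro t ht
    simp only [Iout, Finset.mem_filter] at ht
    simp only [Ω', Finset.mem_erase, Finset.mem_univ, and_true]
    intro h
    exact ht.2 (by simpa using inv_mem (QuotientGroup.eq.1 h))
  have hfib : ∀ x ∈ Ω', (Iout.filter (fun t => (QuotientGroup.mk t : G ⧸ M) = x)).card ≤ Es.card ∧
      ∀ u : G, orderOf u = 2 → u ∉ M → QuotientGroup.mk u = x → ∀ z ∈ (E : Subgroup G), z ≠ 1 →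
        Set.MapsTo (fun t => (u * t)⁻¹ * z * (u * t))
          (Iout.filter (fun t => (QuotientGroup.mk t : G ⧸ M) = x) : Set G) (Es : Set G) ∧
        Set.InjOn (fun t => (u * t)⁻¹ * z * (u * t))
          (Iout.filter (fun t => (QuotientGroup.mk t : G ⧸ M) = x) : Set G) := by
    intro x hx
    have key : ∀ u : G, orderOf u = 2 → u ∉ M → QuotientGroup.mk u = x → ∀ z ∈ (E : Subgroup G), z ≠ 1 →
        Set.MapsTo (fun t => (u * t)⁻¹ * z * (u * t))
          (Iout.filter (fun t => (QuotientGroup.mk t : G ⧸ M) = x) : Set G) (Es : Set G) ∧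
        Set.InjOn (fun t => (u * t)⁻¹ * z * (u * t))
          (Iout.filter (fun t => (QuotientGroup.mk t : G ⧸ M) = x) : Set G) := by
      intro u hu huM hux z hz hz1
      have hh : ∀ t ∈ (Iout.filter (fun t => (QuotientGroup.mk t : G ⧸ M) = x) : Set G),
          u * t ∈ M ∧ u * (u * t) * u = (u * t)⁻¹ := by
        intro t ht
        simp only [Iout, hI, Finset.coe_filter, Finset.mem_filter, Finset.mem_univ, true_and,
          Set.mem_ofPred_eq] at ht
        refine ⟨?_, ?_⟩
        · have := QuotientGroup.eq.1 (hux.trans ht.2.symm)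
          rwa [Invol.inv_eq hu] at this
        · rw [Invol.mul_self_cancel hu, mul_inv_rev, Invol.inv_eq hu, Invol.inv_eq ht.1.1]
      refine ⟨fun t ht => ?_, fun a ha b hb hab => ?_⟩
      · rw [Finset.mem_coe, hEsmem]
        obtain ⟨hm, -⟩ := hh t ht
        refine ⟨?_, fun h => hz1 ?_⟩
        · have := D.conj_mem_E (inv_mem hm) hz
          simpa using this
        · change (u * t)⁻¹ * z * (u * t) = 1 at h
          have h' : z = (u * t) * ((u * t)⁻¹ * z * (u * t)) * (u * t)⁻¹ := by group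
          rw [h', h]; group
      · obtain ⟨ma, ia⟩ := hh a ha
        obtain ⟨mb, ib⟩ := hh b hb
        exact mul_left_cancel (D.inv_conj_inj hu huM hz hz1 ma ia mb ib hab)
    refine ⟨?_, key⟩
    rcases (Iout.filter (fun t => (QuotientGroup.mk t : G ⧸ M) = x)).eq_empty_or_nonempty with he | ⟨u, hu⟩
    · rw [he]; simp
    simp only [Iout, hI, Finset.mem_filter, Finset.mem_univ, true_and] at hu
    obtain ⟨z, hz, hz1⟩ := D.exists_ne_one
    obtain ⟨h1, h2⟩ := key u hu.1.1 hu.1.2 hu.2 z hz hz1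
    exact Finset.card_le_card_of_injOn _ h1 h2
  have hsum := Finset.card_eq_sum_card_fiberwise (f := fun t => (QuotientGroup.mk t : G ⧸ M)) hmaps
  have hΩ' : Ω'.card = Fintype.card (G ⧸ M) - 1 := by
    simp [Ω', Finset.card_erase_of_mem]
  have hall : ∀ x ∈ Ω', (Iout.filter (fun t => (QuotientGroup.mk t : G ⧸ M) = x)).card = Es.card := by
    refine (Finset.sum_eq_sum_iff_of_le (fun x hx => (hfib x hx).1)).1 ?_
    rw [← hsum, Finset.sum_const, smul_eq_mul, hΩ']
    have : 1 ≤ Fintype.card (G ⧸ M) := Fintype.card_pos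
    rw [Nat.sub_one_mul]
    omega
  refine ⟨fun g hg => ?_, fun u hu huM z hz hz1 e he he1 => ?_⟩
  · have hgx : (QuotientGroup.mk g : G ⧸ M) ∈ Ω' := by
      simp only [Ω', Finset.mem_erase, Finset.mem_univ, and_true]
      intro h; exact hg (by simpa using inv_mem (QuotientGroup.eq.1 h))
    obtain ⟨z, hz, hz1⟩ := D.exists_ne_one
    have hpos : 0 < (Iout.filter (fun t => (QuotientGroup.mk t : G ⧸ M) = QuotientGroup.mk g)).card := by
      rw [hall _ hgx]
      exact Finset.card_pos.2 ⟨z, (hEsmem z).2 ⟨hz, hz1⟩⟩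
    obtain ⟨u, hu⟩ := Finset.card_pos.1 hpos
    simp only [Iout, hI, Finset.mem_filter, Finset.mem_univ, true_and] at hu
    exact ⟨u, hu.1.1, hu.1.2, QuotientGroup.eq.1 hu.2⟩
  · have hux : (QuotientGroup.mk u : G ⧸ M) ∈ Ω' := by
      simp only [Ω', Finset.mem_erase, Finset.mem_univ, and_true]
      intro h; exact huM (by simpa using inv_mem (QuotientGroup.eq.1 h))
    obtain ⟨hm, hi⟩ := (hfib _ hux).2 u hu huM rfl z hz hz1
    obtain ⟨t, ht, hte⟩ := Finset.surjOn_of_injOn_of_card_le _ hm hi (hall _ hux).ge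
      (Finset.mem_coe.2 ((hEsmem e).2 ⟨he, he1⟩))
    simp only [Iout, hI, Finset.coe_filter, Finset.mem_filter, Finset.mem_univ, true_and,
      Set.mem_ofPred_eq] at ht
    refine ⟨u * t, ?_, ?_, hte⟩
    · have := QuotientGroup.eq.1 ht.2.symm
      rwa [Invol.inv_eq hu] at this
    · rw [Invol.mul_self_cancel hu, mul_inv_rev, Invol.inv_eq hu, Invol.inv_eq ht.1.1]

end Ctx

end Cfsg.Agent.H73.TwoP
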