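import Cfsg.Agent.H73.TwoP.Basic
import Cfsg.Agent.PGroup.Frattini
import Mathlib.GroupTheory.Perm.Cycle.Type

/-!
# A `p`-group normalised by `E ⋊ ⟨c⟩` is centralised by `E`

`c` of prime order acts fixed-point-freely on the elementary 2-group `E`; otherwise a suitable element
`x c` has order `r p` (or `p ^ 2`).
-/

set_option autoImplicit false

namespace Cfsg.Agent.H73.TwoP

open Subgroup
open scoped commutatorElement

variable {G : Type*} [Group G] [Finite G] {p : ℕ}

/-- The action of the normaliser on the Frattini quotient. -/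
noncomputable def frattiniAct (R : Subgroup G) :
    normalizer (R : Set G) →* MulAut (↥R ⧸ frattini ↥R) where
  toFun g := QuotientGroup.congr (frattini ↥R) (frattini ↥R) (R.normalizerMonoidHom g)
    (Subgroup.characteristic_iff_map_eq.1 inferInstance _)
  map_one' := by
    refine MulEquiv.ext fun v => ?_
    induction v using QuotientGroup.induction_on with
    | _ x => simp
  map_mul' a b := by
    refine MulEquiv.ext fun v => ?_
    induction v using QuotientGroup.induction_on with
    | _ x => simp [MulAut.mul_apply]; rfl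

theorem frattiniAct_mk (R : Subgroup G) (g : normalizer (R : Set G)) (x : R) :
    frattiniAct R g (x : ↥R ⧸ frattini ↥R) =
      ((R.normalizerMonoidHom g x : R) : ↥R ⧸ frattini ↥R) := rfl

theorem coe_normalizerMonoidHom (R : Subgroup G) (g : normalizer (R : Set G)) (x : R) :
    ((R.normalizerMonoidHom g x : R) : G) = g * x * g⁻¹ := by
  simp [Subgroup.normalizerMonoidHom]
  rfl

theorem Hyp.key (H : Hyp G p) {R E : Subgroup G} (hR : IsPGroup p R) (hE : IsPGroup 2 E)
    (hER : E ≤ normalizer (R : Set G)) {c : G} {r : ℕ} (hr : r.Prime) (hr2 : r ≠ 2)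
    (hc : orderOf c = r) (hcR : c ∈ normalizer (R : Set G)) (hcE : c ∈ normalizer (E : Set G))
    (hfpf : ∀ e ∈ E, c * e = e * c → e = 1) :
    E ≤ centralizer (R : Set G) := by
  classical
  haveI : Fact p.Prime := ⟨H.hp⟩
  haveI : Fact r.Prime := ⟨hr⟩
  have hcop : (Nat.card E).Coprime (Nat.card (frattini ↥R)) := by
    obtain ⟨a, ha⟩ := hE.exists_card_eq
    obtain ⟨b, hb⟩ := (hR.to_subgroup (frattini ↥R)).exists_card_eq
    rw [ha, hb]
    exact ((Nat.coprime_primes Nat.prime_two H.hp).2 (Ne.symm H.hp2)).pow a b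
  refine Coprime.le_centralizer_of_frattini hER hcop ?_
  by_contra hcon
  set V := ↥R ⧸ frattini ↥R
  letI : CommGroup V :=
    { (inferInstance : Group V) with
      mul_comm := fun a b => by
        induction a using QuotientGroup.induction_on with
        | _ a =>
        induction b using QuotientGroup.induction_on with
        | _ b =>
          rw [← QuotientGroup.mk_mul, ← QuotientGroup.mk_mul, QuotientGroup.eq]
          have : ⁅(b⁻¹ : R), a⁻¹⁆ ∈ frattini ↥R :=
            PGroup.commutator_le_frattini hR (commutator_mem_commutator (mem_top _) (mem_top _))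
          simpa [commutatorElement_def, mul_assoc] using this }
  have hV : IsPGroup p V := hR.to_quotient _
  have hodd : ∀ v : V, v⁻¹ = v → v = 1 := by
    intro v hv
    obtain ⟨k, hk⟩ := hV v
    obtain ⟨j, hj⟩ := (H.odd_p.pow : Odd (p ^ k))
    rw [hj, pow_succ, pow_mul, show v ^ 2 = 1 by rw [pow_two]; nth_rewrite 1 [← hv]; exact inv_mul_cancel v] at hk
    simpa using hk
  set φ := frattiniAct R
  let cN : normalizer (R : Set G) := ⟨c, hcR⟩
  let ε : E →* MulAut V := φ.comp (Subgroup.inclusion hER)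
  have hEc : ∀ a b : E, a * b = b * a := fun a b =>
    Subtype.ext (H.commute_of_mem_pGroup hE a.2 b.2)
  have hEinv : ∀ a : E, a * a = 1 := fun a => Subtype.ext (H.mul_self_of_mem_pGroup hE a.2)
  have hεε : ∀ (a : E) (v : V), ε a (ε a v) = v := fun a v => by
    rw [← MulAut.mul_apply, ← map_mul, hEinv, map_one, MulAut.one_apply]
  have hεc : ∀ (a b : E) (v : V), ε a (ε b v) = ε b (ε a v) := fun a b v => by
    rw [← MulAut.mul_apply, ← map_mul, hEc, map_mul, MulAut.mul_apply]
  -- some element of `E` moves something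
  have hmove : ∃ (v : V) (e : E), ε e v ≠ v := by
    by_contra h
    push Not at h
    refine hcon fun a ha k hk => ?_
    have h1 := h (QuotientGroup.mk (⟨k, hk⟩ : R)) ⟨a, ha⟩
    change φ ⟨a, hER ha⟩ _ = _ at h1
    rw [frattiniAct_mk, QuotientGroup.eq] at h1
    refine ⟨_, inv_mem h1, ?_⟩
    simp only [coe_subtype, coe_inv, coe_mul, coe_normalizerMonoidHom]
    group
  -- maximal fixed subgroup
  obtain ⟨B, ⟨v, hBv, hv⟩, hBmax⟩ := Set.Finite.exists_maximal
    (s := {B : Subgroup E | ∃ v : V, (∀ b ∈ B, ε b v = v) ∧ ∃ e, ε e v ≠ v}) (Set.toFinite _)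
    (by
      obtain ⟨v, e, he⟩ := hmove
      exact ⟨⊥, v, fun b hb => by rw [mem_bot.1 hb, map_one, MulAut.one_apply], e, he⟩)
  have hA : ∀ u : V, (∀ b ∈ B, ε b u = u) → ∀ e : E, e ∉ B → ∀ f : E,
      ε f (u * ε e u) = u * ε e u := by
    intro u hu e he
    by_contra hne
    push Not at hne
    have hfix : ∀ b ∈ B ⊔ zpowers e, ε b (u * ε e u) = u * ε e u := by
      let K : Subgroup E :=
        { carrier := {b | ε b (u * ε e u) = u * ε e u}
          one_mem' := by simp
          mul_mem' := fun {a b} ha hb => by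
            show ε (a * b) _ = _
            rw [map_mul ε, MulAut.mul_apply, hb, ha]
          inv_mem' := fun {a} ha => by
            show ε a⁻¹ _ = _
            rw [inv_eq_of_mul_eq_one_left (hEinv a)]; exact ha }
      have : B ⊔ zpowers e ≤ K := by
        refine sup_le (fun b hb => ?_) (zpowers_le.2 ?_)
        · show ε b _ = _
          rw [map_mul, hu b hb, hεc, hu b hb]
        · show ε e _ = _
          rw [map_mul, hεε, mul_comm]
      exact fun b hb => this hb
    have hle : B ⊔ zpowers e ≤ B := hBmax ⟨_, hfix, hne⟩ le_sup_left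
    exact he (hle (mem_sup_right (mem_zpowers e)))
  obtain ⟨e1, he1⟩ := hv
  have he1B : e1 ∉ B := fun h => he1 (hBv e1 h)
  set w : V := v * (ε e1 v)⁻¹ with hw
  have hwB : ∀ b ∈ B, ε b w = w := fun b hb => by
    rw [hw, map_mul, map_inv, hεc, hBv b hb]
  have hwe : ε e1 w = w⁻¹ := by
    rw [hw, map_mul, map_inv, hεε, mul_inv_rev, inv_inv]
  have hw1 : w ≠ 1 := fun h => he1 (by
    rw [hw, mul_inv_eq_one] at h; exact h.symm)
  have hout : ∀ e : E, e ∉ B → ε e w = w⁻¹ := by
    intro e he
    have h1 := hA w hwB e he e1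
    have h2 : ε e1 (w * ε e w) = (w * ε e w)⁻¹ := by
      rw [map_mul, hwe, hεc, hwe, map_inv]
      exact (mul_inv w _).symm
    exact eq_inv_of_mul_eq_one_right (hodd _ (h2.symm.trans h1))
  have hmul : ∀ a b : E, a ∉ B → b ∉ B → a * b ∈ B := by
    intro a b ha hb
    by_contra h
    have h1 := hout _ h
    rw [map_mul ε, MulAut.mul_apply, hout b hb, map_inv, hout a ha, inv_inv] at h1
    exact hw1 (hodd w h1.symm)
  -- conjugation by `c` on `E`
  let γ : MulAut E := E.normalizerMonoidHom ⟨c, hcE⟩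
  have hγ : ∀ e : E, ((γ e : E) : G) = c * e * c⁻¹ := fun e => coe_normalizerMonoidHom E _ e
  have hγr : γ ^ r = 1 := by
    rw [← map_pow, show (⟨c, hcE⟩ : normalizer (E : Set G)) ^ r = 1 from
      Subtype.ext (by rw [← hc]; simp [pow_orderOf_eq_one]), map_one]
  have hconjε : ∀ (e : E) (u : V), φ cN (ε e u) = ε (γ e) (φ cN u) := by
    intro e u
    show φ cN (φ (Subgroup.inclusion hER e) u) = φ (Subgroup.inclusion hER (γ e)) (φ cN u)
    rw [← MulAut.mul_apply, ← map_mul, ← MulAut.mul_apply, ← map_mul]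
    congr 2
    apply Subtype.ext
    simp [hγ, cN]
  have hcard : Nat.card {e : E // e ∉ B} = Nat.card B := by
    refine Nat.card_congr
      { toFun := fun e => ⟨e1 * e.1, hmul _ _ he1B e.2⟩
        invFun := fun b => ⟨e1 * b.1, fun h => he1B (by simpa [mul_assoc] using mul_mem h (inv_mem b.2))⟩
        left_inv := fun e => Subtype.ext (by
          show e1 * (e1 * e.1) = e.1
          rw [← mul_assoc, hEinv, one_mul])
        right_inv := fun b => Subtype.ext (by
          show e1 * (e1 * b.1) = b.1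
          rw [← mul_assoc, hEinv, one_mul]) }
  have hstab : ∀ i, 0 < i → i < r → ∃ h ∈ B, (γ ^ i) h ∉ B := by
    intro i hi0 hir
    by_contra h
    push Not at h
    obtain ⟨j, hj⟩ : ∃ j : ℕ, γ = (γ ^ i) ^ j := by
      have hco : Nat.Coprime i r := ((hr.coprime_iff_not_dvd).2
        (Nat.not_dvd_of_pos_of_lt hi0 hir)).symm
      obtain ⟨j, -, hj⟩ := Nat.exists_mul_mod_eq_one_of_coprime hco hr.one_lt
      refine ⟨j, ?_⟩
      rw [← pow_mul, ← Nat.mod_add_div (i * j) r, hj, pow_add, pow_mul, hγr, one_pow, mul_one,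
        pow_one]
    have hγB : ∀ b ∈ B, γ b ∈ B := by
      intro b hb
      have key : ∀ n : ℕ, ((γ ^ i) ^ n) b ∈ B := by
        intro n
        induction n with
        | zero => simpa using hb
        | succ n ih =>
          rw [pow_succ', MulAut.mul_apply]
          exact h _ ih
      rw [hj]; exact key j
    have hγB' : ∀ b, γ b ∈ B → b ∈ B := by
      intro b hb
      have key : ∀ n : ℕ, (γ ^ n) (γ b) ∈ B := by
        intro n
        induction n with
        | zero => simpa using hb
        | succ n ih => rw [pow_succ', MulAut.mul_apply]; exact hγB _ ih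
      have := key (r - 1)
      rwa [← MulAut.mul_apply, ← pow_succ, Nat.sub_add_cancel hr.one_lt.le, hγr,
        MulAut.one_apply] at this
    let σ : Equiv.Perm {e : E // e ∉ B} := Equiv.Perm.subtypePerm γ.toEquiv
      (fun x => ⟨fun hx hxB => hx (hγB x hxB), fun hx hxB => hx (hγB' x hxB)⟩)
    letI := Fintype.ofFinite {e : E // e ∉ B}
    have hnd : ¬ r ∣ Fintype.card {e : E // e ∉ B} := by
      rw [← Nat.card_eq_fintype_card, hcard]
      obtain ⟨k, hk⟩ := (hE.to_subgroup B).exists_card_eq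
      rw [hk]
      exact fun hd => hr2 ((Nat.prime_dvd_prime_iff_eq hr Nat.prime_two).1 (hr.dvd_of_dvd_pow hd))
    have hσn : ∀ (n : ℕ) (x : {e : E // e ∉ B}), ((σ ^ n) x).1 = (γ ^ n) x.1 := by
      intro n
      induction n with
      | zero => simp
      | succ n ih =>
        intro x
        rw [pow_succ', Equiv.Perm.mul_apply, pow_succ', MulAut.mul_apply, ← ih]
        rfl
    have hσ : σ ^ r ^ 1 = 1 := by
      rw [pow_one]
      refine Equiv.ext fun x => Subtype.ext ?_
      rw [hσn, hγr]; rfl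
    obtain ⟨a, ha⟩ := Equiv.Perm.exists_fixed_point_of_prime hnd hσ
    have h2 : γ a.1 = a.1 := congrArg Subtype.val ha
    have h3 := congrArg Subtype.val h2
    rw [hγ, mul_inv_eq_iff_eq_mul] at h3
    exact a.2 (by rw [show a.1 = 1 from Subtype.ext (hfpf _ a.1.2 h3)]; exact one_mem _)
  -- the norm of `w`
  set ψ := φ cN
  set N : V := ∏ i ∈ Finset.range r, (ψ ^ i) w with hN
  have hpull : ∀ (i : ℕ) (h : E), ε ((γ ^ i) h) ((ψ ^ i) w) = (ψ ^ i) (ε h w) := by
    intro i
    induction i with
    | zero => simp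
    | succ i ih =>
      intro h
      rw [pow_succ', MulAut.mul_apply, pow_succ', MulAut.mul_apply, MulAut.mul_apply, ← ih,
        hconjε]
  have hN1 : N ≠ 1 := by
    intro hN0
    letI := Fintype.ofFinite B
    have hsum : ∀ i ∈ Finset.range r, i ≠ 0 → ∏ h : B, ε (h : E) ((ψ ^ i) w) = 1 := by
      intro i hi hi0
      obtain ⟨h0, hh0, hh0'⟩ := hstab (r - i) (by have := Finset.mem_range.1 hi; omega) (by have := Finset.mem_range.1 hi; omega)
      have hneg : ε h0 ((ψ ^ i) w) = ((ψ ^ i) w)⁻¹ := by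
        have : (γ ^ i) ((γ ^ (r - i)) h0) = h0 := by
          rw [← MulAut.mul_apply, ← pow_add, Nat.add_sub_cancel' (Finset.mem_range.1 hi).le, hγr,
            MulAut.one_apply]
        rw [← this, hpull, hout _ hh0', map_inv]
      apply hodd
      conv_rhs => rw [← Equiv.prod_comp (Equiv.mulLeft (⟨h0, hh0⟩ : B))]
      rw [← Finset.prod_inv_distrib]
      refine Finset.prod_congr rfl fun h _ => ?_
      simp only [Equiv.coe_mulLeft, coe_mul, map_mul, MulAut.mul_apply]
      rw [hεc, hneg, map_inv]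
    have h0 : ∏ h : B, ε (h : E) N = 1 := by
      rw [hN0]; simp
    simp only [hN, map_prod] at h0
    rw [Finset.prod_comm, Finset.prod_eq_single 0 hsum (fun h => absurd (Finset.mem_range.2 hr.pos) h)] at h0
    simp only [pow_zero, MulAut.one_apply] at h0
    rw [Finset.prod_congr rfl (fun (h : B) _ => hwB h.1 h.2), Finset.prod_const, Finset.card_univ,
      ← Nat.card_eq_fintype_card] at h0
    obtain ⟨k, hk⟩ := (hE.to_subgroup B).exists_card_eq
    obtain ⟨j, -, hj⟩ : ∃ j, j ≤ 1 ∧ orderOf w = 2 ^ 0 := by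
      obtain ⟨m, hm⟩ := hV w
      have h1 := orderOf_dvd_of_pow_eq_one h0
      have h2 := orderOf_dvd_of_pow_eq_one hm
      rw [hk] at h1
      exact ⟨0, by omega, Nat.eq_one_of_dvd_coprimes
        (((Nat.coprime_primes Nat.prime_two H.hp).2 (Ne.symm H.hp2)).pow k m) h1 h2⟩
    rw [pow_zero, orderOf_eq_one_iff] at hj
    exact hw1 hj
  -- lift
  obtain ⟨x, hx⟩ := QuotientGroup.mk_surjective w
  have hlift : ∀ n : ℕ, ∃ y : R, (y : G) = ((x : G) * c) ^ n * (c ^ n)⁻¹ ∧
      (y : V) = ∏ i ∈ Finset.range n, (ψ ^ i) w := by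
    intro n
    induction n with
    | zero => exact ⟨1, by simp, by simp⟩
    | succ n ih =>
      obtain ⟨y, hy, hyV⟩ := ih
      refine ⟨y * R.normalizerMonoidHom (cN ^ n) x, ?_, ?_⟩
      · rw [coe_mul, coe_normalizerMonoidHom, hy, pow_succ _ n, pow_succ c n]
        simp [cN, mul_assoc]
      · rw [QuotientGroup.mk_mul, hyV, Finset.prod_range_succ]
        congr 1
        rw [← frattiniAct_mk, hx, map_pow]
  obtain ⟨y, hy, hyV⟩ := hlift r
  rw [show c ^ r = 1 by rw [← hc, pow_orderOf_eq_one], inv_one, mul_one] at hy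
  set g : G := (x : G) * c
  have hy1 : (y : G) ≠ 1 := fun h => hN1 (by
    rw [hN, ← hyV, show y = 1 from Subtype.ext h, QuotientGroup.mk_one])
  have hyp : (y : G) ^ p = 1 := by
    obtain ⟨k, hk⟩ := hR y
    exact H.pow_p_of_pElem (k := k) (by simpa [Subtype.ext_iff] using hk)
  rcases eq_or_ne r p with hrp | hrp
  · refine hy1 ?_
    rw [hy, hrp]
    exact H.pow_p_of_pElem (k := 2) (by rw [pow_two, pow_mul, ← hrp, ← hy, hrp, hyp])
  have hd : orderOf g ∣ r * p :=
    orderOf_dvd_of_pow_eq_one (by rw [pow_mul, ← hy, hyp])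
  have hgr : ¬ orderOf g ∣ r := fun h => hy1 (by rw [hy]; exact orderOf_dvd_iff_pow_eq_one.1 h)
  have hgp : p ∣ orderOf g := by
    by_contra h
    exact hgr ((((H.hp.coprime_iff_not_dvd).2 h).symm).dvd_of_dvd_mul_right hd)
  rcases H.dvd g hgp with h | h
  · obtain ⟨z, hz, -⟩ := hlift p
    change (z : G) = g ^ p * (c ^ p)⁻¹ at hz
    rw [← h, pow_orderOf_eq_one, one_mul, h] at hz
    have h1 : ((z : G))⁻¹ ^ p = 1 := by
      obtain ⟨k, hk⟩ := hR z
      rw [inv_pow, H.pow_p_of_pElem (k := k) (by simpa [Subtype.ext_iff] using hk), inv_one]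
    rw [hz, inv_inv, ← pow_mul] at h1
    have h2 := orderOf_dvd_of_pow_eq_one h1
    rw [hc] at h2
    rcases hr.dvd_mul.1 h2 with h3 | h3 <;> exact hrp ((Nat.prime_dvd_prime_iff_eq hr H.hp).1 h3)
  · rw [h, mul_comm 2 p, mul_comm r p] at hd
    exact hr2 ((Nat.prime_dvd_prime_iff_eq Nat.prime_two hr).1
      (Nat.dvd_of_mul_dvd_mul_left H.hp.pos hd)).symm

end Cfsg.Agent.H73.TwoP
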