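import Cfsg.Agent.H73.TwoP.Nine
import Cfsg.Agent.S0346
import Cfsg.Agent.Invol.BrauerFowler

/-!
# No `N(E)` contains all the centralisers of its involutions
-/

set_option autoImplicit false

namespace Cfsg.Agent.H73.TwoP

open Subgroup

variable {G : Type*} [Group G] [Finite G] {p : ℕ}

namespace Ctx

variable {E : Sylow 2 G} [IsSimpleGroup G] (D : Ctx E p)
include D

local notation "M" => normalizer ((E : Subgroup G) : Set G)
local notation "Q" => centralizer ((E : Subgroup G) : Set G)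

variable {c : G} {r : ℕ} (R : Data E p c r)
include R

theorem elem_p {u d : G} (hrp : r ≠ p) (hu : orderOf u = 2) (huM : u ∉ M) (hd : d ∈ M)
    (hud : u * d * u ∈ M) (hdo : orderOf d = p) :
    Q = (E : Subgroup G) ∧
      ∃ e ∈ (E : Subgroup G), e ≠ 1 ∧ d * e = e * d ∧
        ((p = 3 ∧ Nat.card (E : Subgroup G) = 8 ∧
            ∀ e' ∈ (E : Subgroup G), e' ≠ 1 → d * e' = e' * d → e' = e) ∨
          centralizer ({d} : Set G) ≤ M) := by
  haveI := Fact.mk D.H.hp
  haveI : Fact (Nat.Prime 2) := ⟨Nat.prime_two⟩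
  have hnQ : d ∈ normalizer (Q : Set G) := by
    rw [mem_normalizer_iff]
    intro q
    refine ⟨fun h => D.conj_mem_Q hd h, fun h => ?_⟩
    have := D.conj_mem_Q (inv_mem hd) h
    simpa [mul_assoc] using this
  have h1 := card_inf_centralizer_modEq (q := p) hnQ
    (fun x _ => by rw [← hdo, pow_orderOf_eq_one, one_mul, mul_one])
  have h2 := D.dvd_succ_fixed R hrp hu huM hd hud hdo
  have hpQ : ¬ p ∣ Nat.card Q := by
    intro h
    have h3 := (Nat.modEq_zero_iff_dvd.1 (h1.trans (Nat.modEq_zero_iff_dvd.2 h)))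
    exact D.H.hp.one_lt.ne' (Nat.dvd_one.1 ((Nat.dvd_add_left h3).1 h2))
  have hEQ : (E : Subgroup G) ≤ Q := fun a ha => mem_centralizer_iff.2 fun b hb => D.commute_E hb ha
  have hQ2 : IsPGroup 2 Q := by
    refine IsPGroup.of_card (n := (Nat.card Q).primeFactorsList.length)
      (Nat.eq_prime_pow_of_unique_prime_dvd Nat.card_pos.ne' fun {s} hs hsd => ?_)
    by_contra hs2
    haveI := Fact.mk hs
    obtain ⟨⟨k, hk⟩, hko⟩ := exists_prime_orderOf_dvd_card' s hsd
    rw [Subgroup.orderOf_mk] at hko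
    have h4 := orderOf_dvd_of_pow_eq_one (D.pow_p_of_Q hk (hko ▸ hs.odd_of_ne_two hs2))
    rw [hko, Nat.prime_dvd_prime_iff_eq hs D.H.hp] at h4
    exact hpQ (h4 ▸ hsd)
  have hQE : Q = (E : Subgroup G) := E.is_maximal' hQ2 hEQ
  refine ⟨hQE, ?_⟩
  rw [hQE] at h2
  set K := (E : Subgroup G) ⊓ centralizer ({d} : Set G) with hK
  have hK1 : K ≠ ⊥ := fun h => by
    rw [h, card_bot] at h2
    exact D.H.hp2 ((Nat.prime_dvd_prime_iff_eq D.H.hp Nat.prime_two).1 h2)
  obtain ⟨⟨e, he⟩, he1⟩ := (ne_bot_iff_exists_ne_one.1 hK1)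
  have hec : d * e = e * d := (mem_centralizer_singleton_iff.1 he.2).symm
  have hee1 : e ≠ 1 := fun h => he1 (Subtype.ext h)
  refine ⟨e, he.1, hee1, hec, ?_⟩
  by_cases hmore : ∃ e' ∈ (E : Subgroup G), e' ≠ 1 ∧ d * e' = e' * d ∧ e' ≠ e
  · obtain ⟨e', he', he'1, he'c, hne⟩ := hmore
    exact Or.inr (D.setting.centralizer_le_of_two D.H hdo he' he.1 he'1 hee1 hne he'c hec)
  push Not at hmore
  refine Or.inl ?_
  have hcardK : Nat.card K = 2 := by
    have hsub : (K : Set G) = {1, e} := by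
      ext x
      constructor
      · intro hx
        by_cases hx1 : x = 1
        · exact Or.inl hx1
        · exact Or.inr (hmore x hx.1 hx1 (mem_centralizer_singleton_iff.1 hx.2).symm)
      · rintro (rfl | rfl)
        · exact one_mem _
        · exact he
    have := Set.ncard_pair (Ne.symm hee1)
    rw [← hsub, ← Nat.card_coe_set_eq] at this
    exact this
  have hp3 : p = 3 := by
    rw [hcardK] at h2
    exact (Nat.prime_dvd_prime_iff_eq D.H.hp Nat.prime_three).1 h2
  refine ⟨hp3, ?_, hmore⟩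
  have hdQ : d ∉ Q := fun h => hpQ (hdo ▸ Subgroup.orderOf_dvd_natCard _ h)
  have h5 := R.field d hd (by rw [← hdo, pow_orderOf_eq_one]; exact one_mem _) hdQ e he.1 hee1 hec
  rw [← hK, hcardK, hp3] at h5
  omega

theorem no_p_elem {u d : G} (hrp : r ≠ p) (hu : orderOf u = 2) (huM : u ∉ M) (hd : d ∈ M)
    (hud : u * d * u ∈ M) (hdo : orderOf d = p) : False := by
  have huu : ∀ a : G, u * (u * a * u) * u = a := fun a => by
    simp only [mul_assoc, Invol.mul_self_cancel hu, Invol.inv_mul_self hu, mul_one]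
  have hudo : orderOf (u * d * u) = p := by
    have := Invol.orderOf_conj u d
    rwa [Invol.inv_eq hu, hdo] at this
  obtain ⟨hQE, e, he, he1, hec, hcase⟩ := D.elem_p R hrp hu huM hd hud hdo
  obtain ⟨-, e2, he2, he21, he2c, -⟩ := D.elem_p R hrp hu huM hud (by rw [huu]; exact hd) hudo
  -- `u e2 u` is an involution outside `M` commuting with `d`
  have hnot := D.conj_notMem hu huM he2 he21
  have hcomm : d * (u * e2 * u) = u * e2 * u * d := by
    calc d * (u * e2 * u) = u * ((u * d * u) * e2) * u := by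
          simp only [mul_assoc, Invol.mul_self_cancel hu, Invol.inv_mul_self hu]
      _ = u * e2 * u * d := by
          rw [he2c]
          simp only [mul_assoc, Invol.mul_self_cancel hu, Invol.inv_mul_self hu, mul_one]
  rcases hcase with ⟨hp3, h8, honly⟩ | hle
  · exact D.nine R hrp hp3 h8 hQE
      (u := u * e2 * u)
      (by
        have := Invol.orderOf_conj u e2
        rwa [Invol.inv_eq hu, D.H.orderOf_mem he2 he21] at this)
      hnot hd hcomm he he1 hec honly
  · exact hnot (hle (mem_centralizer_singleton_iff.2 hcomm.symm))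

theorem exists_pair (hrp : r ≠ p) {u : G} (hu : orderOf u = 2) (huM : u ∉ M) {a b : G ⧸ M}
    (hab : a ≠ b) :
    ∃ k : G, k • a = QuotientGroup.mk 1 ∧ k • b = QuotientGroup.mk u := by
  induction a using QuotientGroup.induction_on with
  | _ a =>
  have hne : a⁻¹ • b ≠ QuotientGroup.mk 1 := by
    intro h
    rw [inv_smul_eq_iff, MulAction.Quotient.smul_coe, smul_eq_mul, mul_one] at h
    exact hab h.symm
  obtain ⟨q, hq, hqx⟩ := D.Q_transitive R hrp hu huM hne
  refine ⟨q⁻¹ * a⁻¹, ?_, ?_⟩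
  · rw [mul_smul, MulAction.Quotient.smul_coe, smul_eq_mul, inv_mul_cancel]
    exact smul_one_eq_self_iff.2 (inv_mem (Q_le hq))
  · rw [mul_smul, ← hqx, inv_smul_smul]

omit R in
/-- The main theorem of the counting part. -/
theorem contradiction (hex : ∃ g : G, orderOf g = 2 * p) : False := by
  classical
  obtain ⟨c, r, R⟩ := D.exists_data
  haveI := Fact.mk D.H.hp
  haveI := Fact.mk R.hr
  have hrp := D.r_ne_p R hex
  obtain ⟨a, ha⟩ : ∃ a : G, a ∉ M := by
    by_contra h
    push Not at h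
    exact D.ne_top (eq_top_iff.2 fun a _ => h a)
  obtain ⟨u, hu, huM, -⟩ := D.fiber_surjective.1 a ha
  set x0 : G ⧸ M := QuotientGroup.mk 1 with hx0
  set x1 : G ⧸ M := QuotientGroup.mk u with hx1
  have h01 : x0 ≠ x1 := fun h => huM (by simpa using QuotientGroup.eq.1 h)
  have hstab : ∀ d : G, d • x0 = x0 → d • x1 = x1 → d ∈ M ∧ u * d * u ∈ M := fun d h h' => by
    rw [hx0, smul_one_eq_self_iff] at h
    rw [hx1, smul_eq_self_iff, Invol.inv_eq hu] at h'
    exact ⟨h, h'⟩
  have hnop : ∀ d : G, d • x0 = x0 → d • x1 = x1 → orderOf d ≠ p := fun d h h' hdo =>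
    D.no_p_elem R hrp hu huM (hstab d h h').1 (hstab d h h').2 hdo
  have hnd : ∀ d : G, d • x0 = x0 → d • x1 = x1 → ¬ p ∣ orderOf d := by
    intro d h h' hpd
    have hst : d ∈ MulAction.stabilizer G x0 ⊓ MulAction.stabilizer G x1 := ⟨h, h'⟩
    have hpow := pow_mem hst (orderOf d / p)
    refine hnop _ hpow.1 hpow.2 ?_
    rw [orderOf_pow_of_dvd (Nat.div_pos (Nat.le_of_dvd (orderOf_pos d) hpd) D.H.hp.pos).ne'
      (Nat.div_dvd_of_dvd hpd), Nat.div_div_self hpd (orderOf_pos d).ne']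
  letI := Fintype.ofFinite (G ⧸ M)
  haveI hfaith : FaithfulSMul G (G ⧸ M) :=
    ⟨fun {g h} hgh => Invol.toPermHom_injective_of_simple D.ne_top (Equiv.ext hgh)⟩
  have hZ : Cfsg.IsZassenhausGroup G (G ⧸ M) := by
    refine ⟨hfaith, ?_, ?_, ?_, ?_⟩
    · rw [MulAction.is_two_pretransitive_iff]
      intro a b a' b' hab hab'
      obtain ⟨k, hk1, hk2⟩ := D.exists_pair R hrp hu huM hab
      obtain ⟨k', hk1', hk2'⟩ := D.exists_pair R hrp hu huM hab'
      exact ⟨k'⁻¹ * k, by rw [mul_smul, hk1, ← hk1', inv_smul_smul],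
        by rw [mul_smul, hk2, ← hk2', inv_smul_smul]⟩
    · intro g a b b' hab hbb' hab' hga hgb hgb'
      obtain ⟨k, hk1, hk2⟩ := D.exists_pair R hrp hu huM hab
      set d := k * g * k⁻¹ with hd
      have hfix : ∀ x : G ⧸ M, g • x = x → d • (k • x) = k • x := fun x hx => by
        rw [hd, mul_smul, mul_smul, inv_smul_smul, hx]
      have hd0 : d • x0 = x0 := by rw [hx0, ← hk1]; exact hfix a hga
      have hd1 : d • x1 = x1 := by rw [hx1, ← hk2]; exact hfix b hgb
      obtain ⟨hdM, hudM⟩ := hstab d hd0 hd1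
      have hne : k • b' ≠ QuotientGroup.mk 1 := by
        rw [← hk1]; exact fun h => hab' (MulAction.injective k h).symm
      obtain ⟨q, hq, hqx⟩ := D.Q_transitive R hrp hu huM hne
      have hq1 : q ≠ 1 := by
        rintro rfl
        rw [one_smul, ← hk2] at hqx
        exact hbb' (MulAction.injective k hqx)
      have hdq : (d * q * d⁻¹) • x1 = q • x1 := by
        rw [mul_smul, inv_smul_eq_iff.2 hd1.symm, mul_smul, hx1, hqx]
        exact hfix b' hgb'
      have hcomm := D.Q_semiregular hu huM (D.conj_mem_Q hdM hq) hq hdq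
      rw [mul_inv_eq_iff_eq_mul] at hcomm
      have hcm : Commute q d := hcomm.symm
      have hodd := D.odd_of_mem hu huM hdM hudM
      have hd1' : d = 1 := by
        by_cases he : 2 ∣ orderOf q
        · set t := q ^ (orderOf q / 2)
          have ht : orderOf t = 2 := Invol.pow_half_eq_two (orderOf_pos _) (even_iff_two_dvd.2 he)
          have h := orderOf_dvd_of_pow_eq_one (D.H.pow_p_eq_one ht (hcm.pow_left _) hodd)
          rcases (Nat.dvd_prime D.H.hp).1 h with h | h
          · exact orderOf_eq_one_iff.1 h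
          · exact absurd h (hnop d hd0 hd1)
        · have hqo : orderOf q = p := orderOf_eq_prime
            (D.pow_p_of_Q hq (Nat.not_even_iff_odd.1 (fun h => he (even_iff_two_dvd.1 h)))) hq1
          exact D.H.eq_p_of_commute hqo hcm hodd (hnd d hd0 hd1)
      rw [hd] at hd1'
      exact conj_eq_one_iff.1 hd1'
    · obtain ⟨g, hg, hug, hgo⟩ := D.exists_D_elem hu huM R
      refine ⟨g, fun h => ?_, x0, x1, h01, smul_one_eq_self_iff.2 hg, ?_⟩
      · rw [h, orderOf_one] at hgo; exact R.hr.ne_one hgo.symm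
      · rw [hx1, smul_eq_self_iff, Invol.inv_eq hu]; exact hug
    · intro N hN hT

      refine ⟨x0, ?_⟩
      rcases hN.eq_bot_or_eq_top with h | h
      · exfalso
        obtain ⟨⟨n, hn⟩, hnx⟩ := hT.exists_smul_eq x0 x1
        rw [h, mem_bot] at hn
        subst hn
        exact h01 (by simpa [Subgroup.smul_def] using hnx)
      · intro hb
        obtain ⟨z, hz, hz1⟩ := D.exists_ne_one
        have hzst : (⟨z, h ▸ mem_top z⟩ : N) ∈ MulAction.stabilizer N x0 :=
          smul_one_eq_self_iff.2 (le_normalizer hz)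
        have h3 := mem_bot.1 ((SetLike.ext_iff.1 hb _).1 hzst)
        exact hz1 (congrArg Subtype.val h3)
  have hpp := Cfsg.Agent.S0346.result hZ
  have hcard : Fintype.card (G ⧸ M) - 1 = Nat.card Q := by
    rw [← Nat.card_eq_fintype_card,
      Nat.card_congr (Equiv.sumCompl (fun x : G ⧸ M => x = x0)).symm, Nat.card_sum]
    have h1 : Nat.card {x : G ⧸ M // x = x0} = 1 :=
      Nat.card_eq_one_iff_exists.2 ⟨⟨x0, rfl⟩, fun y => Subtype.ext y.2⟩
    have h2 : Nat.card {x : G ⧸ M // ¬ x = x0} = Nat.card Q := by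
      refine (Nat.card_congr (Equiv.ofBijective
        (fun q : Q => ⟨(q : G) • x1, D.smul_mk_ne huM (Q_le q.2)⟩) ⟨fun a b h => ?_, fun x => ?_⟩)).symm
      · exact Subtype.ext (D.Q_semiregular hu huM a.2 b.2 (congrArg Subtype.val h))
      · obtain ⟨q, hq, hqx⟩ := D.Q_transitive R hrp hu huM x.2
        exact ⟨⟨q, hq⟩, Subtype.ext hqx⟩
    omega
  rw [hcard] at hpp
  have hEQ : (E : Subgroup G) ≤ Q := fun a ha => mem_centralizer_iff.2 fun b hb => D.commute_E hb ha
  have h2Q : 2 ∣ Nat.card Q := by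
    obtain ⟨z, hz, hz1⟩ := D.exists_ne_one
    have h := Subgroup.orderOf_dvd_natCard _ (hEQ hz)
    rwa [D.H.orderOf_mem hz hz1] at h
  have hpQ : ¬ p ∣ Nat.card Q := by
    intro h
    obtain ⟨s, k, hs, -, hk⟩ := (isPrimePow_nat_iff _).1 hpp
    rw [← hk] at h h2Q
    have e1 := (Nat.prime_dvd_prime_iff_eq Nat.prime_two hs).1 (Nat.prime_two.dvd_of_dvd_pow h2Q)
    have e2 := (Nat.prime_dvd_prime_iff_eq D.H.hp hs).1 (D.H.hp.dvd_of_dvd_pow h)
    exact D.H.hp2 (e2.trans e1.symm)
  obtain ⟨z, hz, hz1, y, hyM, hy, hyz⟩ := D.exists_pElem R hex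
  obtain ⟨q, hq, hqx⟩ := D.Q_transitive R hrp hu huM (D.smul_mk_ne huM hyM)
  set d := q⁻¹ * y with hd
  have hd0 : d • x0 = x0 := smul_one_eq_self_iff.2 (mul_mem (inv_mem (Q_le hq)) hyM)
  have hd1 : d • x1 = x1 := by rw [hd, mul_smul, hx1, ← hqx, inv_smul_smul]
  -- `d ^ p` lies in `C(E) ∩ uMu = 1`
  have hdp : d ^ p = 1 := by
    have hdM : d ∈ M := (hstab d hd0 hd1).1
    have key : ∀ n : ℕ, (y ^ n)⁻¹ * d ^ n ∈ Q := by
      intro n
      induction n with
      | zero => simp
      | succ n ih =>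
        have h1 := D.conj_mem_Q (inv_mem hyM) (mul_mem ih (inv_mem hq))
        rw [inv_inv] at h1
        have e : (y ^ (n + 1))⁻¹ * d ^ (n + 1) = y⁻¹ * ((y ^ n)⁻¹ * d ^ n * q⁻¹) * y := by
          rw [pow_succ d n, pow_succ y n, mul_inv_rev, hd]; group
        rw [e]; exact h1
    have h1 := key p
    rw [← hy, pow_orderOf_eq_one, inv_one, one_mul, hy] at h1
    have h2 := (hstab _ (pow_mem (show d ∈ MulAction.stabilizer G x0 from hd0) p)
      (pow_mem (show d ∈ MulAction.stabilizer G x1 from hd1) p)).2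
    exact D.Q_inter_eq_one hu huM h1 h2
  have hd1' : d = 1 := by
    by_contra hne
    exact hnop d hd0 hd1 (orderOf_eq_prime hdp hne)
  rw [hd, inv_mul_eq_one] at hd1'
  exact hpQ (hy ▸ Subgroup.orderOf_dvd_natCard _ (hd1' ▸ hq))

end Ctx

end Cfsg.Agent.H73.TwoP
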