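import Cfsg.Agent.H73.TwoP.RankThree
import Cfsg.Agent.Spec2P.Klein
import Cfsg.Agent.Linear.SmallIso

/-!
# Simple groups with even element orders `2` and `2p`
-/

set_option autoImplicit false

namespace Cfsg.Agent.H73.TwoP

open Subgroup

variable {G : Type*} [Group G] [Finite G]

/-- The finite simple groups in which the even orders are `2, 2p` and the orders divisible by `p` are
`p, 2p`. -/
theorem classify [IsSimpleGroup G] {p : ℕ} (H : Hyp G p) (hns : ¬ (Nat.card G).Prime)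
    (hex : ∃ g : G, orderOf g = 2 * p) :
    ∃ (F : Type) (_ : Field F) (_ : Fintype F), (Fintype.card F % 8 = 3 ∨ Fintype.card F % 8 = 5) ∧
      Nonempty (G ≃* Matrix.ProjectiveSpecialLinearGroup (Fin 2) F) := by
  haveI : Fact (Nat.Prime 2) := ⟨Nat.prime_two⟩
  obtain ⟨g, hg⟩ := hex
  have h2 : 2 ∣ Nat.card G := (hg ▸ dvd_mul_right 2 p : 2 ∣ orderOf g).trans (orderOf_dvd_natCard g)
  have h4 := SmallGroups.four_dvd_card (SmallGroups.not_isMulCommutative hns) h2
  let E : Sylow 2 G := default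
  obtain ⟨a, ha⟩ := E.2.exists_card_eq
  have h4E : 2 ^ 2 ∣ Nat.card (E : Subgroup G) := E.pow_dvd_card_of_pow_dvd_card (by simpa using h4)
  rw [ha] at h4E
  have ha2 : 2 ≤ a := (Nat.pow_dvd_pow_iff_le_right one_lt_two).1 h4E
  rcases Nat.lt_or_ge a 3 with h | h
  swap
  · exact (H.no_rank_three hns ⟨g, hg⟩ E (by
      rw [ha]; exact le_trans (by norm_num) (Nat.pow_le_pow_right two_pos h))).elim
  have hE4 : Nat.card (E : Subgroup G) = 4 := by
    rw [ha, show a = 2 by omega]; norm_num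
  obtain ⟨F, iF, iFf, hodd, ⟨e⟩⟩ := Spec2P.klein_case hns H.hp H.hp2 H.even H.dvd E hE4
  refine ⟨F, iF, iFf, ?_, ⟨e⟩⟩
  have hc := Linear.card_PSL_two_of_odd hodd
  rw [← Nat.card_congr e.toEquiv] at hc
  have h8 : ¬ 8 ∣ Nat.card G := by
    intro h8
    have := E.pow_dvd_card_of_pow_dvd_card (n := 3) (by simpa using h8)
    rw [hE4] at this
    norm_num at this
  set q := Fintype.card F
  by_contra hcon
  push Not at hcon
  have hq2 : q % 2 = 1 := Nat.odd_iff.1 hodd
  apply h8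
  rcases (show q % 8 = 1 ∨ q % 8 = 7 by omega) with h | h
  · obtain ⟨k, hk⟩ : ∃ k, q = 8 * k + 1 := ⟨q / 8, by omega⟩
    rw [hk, Nat.add_sub_cancel] at hc
    exact ⟨k * (8 * k + 1) * (4 * k + 1), by nlinarith⟩
  · obtain ⟨k, hk⟩ : ∃ k, q = 8 * k + 7 := ⟨q / 8, by omega⟩
    rw [hk, show 8 * k + 7 - 1 = 8 * k + 6 by omega] at hc
    exact ⟨(k + 1) * (8 * k + 7) * (4 * k + 3), by nlinarith⟩

end Cfsg.Agent.H73.TwoP
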