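import Cfsg.Agent.H73.TwoP.Regular

/-!
# Nine points: an element of order nine appears
-/

set_option autoImplicit false

namespace Cfsg.Agent.H73.TwoP

open Subgroup

variable {G : Type*} [Group G] [Finite G] {p : ℕ}

namespace Ctx

variable {E : Sylow 2 G} [IsSimpleGroup G] (D : Ctx E p)
include D

local notation "M" => normalizer ((E : Subgroup G) : Set G)
local notation "Q" => centralizer ((E : Subgroup G) : Set G)

variable {c : G} {r : ℕ} (R : Data E p c r)
include R

theorem nine (hrp : r ≠ p) (hp3 : p = 3) (h8 : Nat.card (E : Subgroup G) = 8)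
    (hQE : Q = (E : Subgroup G))
    {u d z : G} (hu : orderOf u = 2) (huM : u ∉ M) (hd : d ∈ M) (hdu : d * u = u * d)
    (hz : z ∈ (E : Subgroup G)) (hz1 : z ≠ 1) (hdz : d * z = z * d)
    (honly : ∀ e ∈ (E : Subgroup G), e ≠ 1 → d * e = e * d → e = z) : False := by
  classical
  haveI := Fact.mk R.hr
  have hr7 : r = 7 := by
    have h := R.hrd
    rw [h8] at h
    exact (Nat.prime_dvd_prime_iff_eq R.hr (by norm_num)).1 h
  obtain ⟨g, hg, hug, hgo⟩ := D.exists_D_elem hu huM R
  have hgi : u * g * u = g⁻¹ := D.inverts hu huM R hg hug hgo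
  have hg1 : g ≠ 1 := fun h => by rw [h, orderOf_one] at hgo; exact R.hr.ne_one hgo.symm
  have hg7 : g ^ 7 = 1 := by rw [← hr7, ← hgo, pow_orderOf_eq_one]
  have hgQ := D.notQ hu huM R hg1 hug
  set x0 : G ⧸ M := QuotientGroup.mk 1 with hx0
  set x1 : G ⧸ M := QuotientGroup.mk u with hx1
  have hgx : ∀ i : ℕ, g ^ i • x1 = x1 := by
    intro i
    have h : g ∈ MulAction.stabilizer G x1 := by
      rw [MulAction.mem_stabilizer_iff, hx1, smul_eq_self_iff, Invol.inv_eq hu]; exact hug
    exact pow_mem h i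
  let e : ℕ → G := fun i => g ^ i * z * (g ^ i)⁻¹
  have heE : ∀ i, e i ∈ (E : Subgroup G) := fun i => D.conj_mem_E (pow_mem hg i) hz
  have he1 : ∀ i, e i ≠ 1 := fun i h => hz1 (conj_eq_one_iff.1 h)
  have hmod : ∀ i, e i = e (i % 7) := fun i => by
    have h : g ^ i = g ^ (i % 7) := by
      conv_lhs => rw [← Nat.mod_add_div i 7, pow_add, pow_mul, hg7, one_pow, mul_one]
    simp only [e, h]
  have hshift : ∀ s i, g ^ s * e i * (g ^ s)⁻¹ = e (s + i) := fun s i => by
    simp only [e, pow_add, mul_inv_rev, mul_assoc]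
  have hinj : ∀ i j, i ≤ j → j < 7 → e i = e j → i = j := by
    intro i j hij hj h
    obtain ⟨k, rfl⟩ := Nat.exists_eq_add_of_le hij
    rw [← hshift i k, show e i = g ^ i * e 0 * (g ^ i)⁻¹ by rw [hshift]; simp] at h
    have h2 : e 0 = e k := mul_left_cancel (mul_right_cancel h)
    have h3 : g ^ k * z = z * g ^ k := by
      simp only [e, pow_zero, one_mul, inv_one, mul_one] at h2
      nth_rewrite 2 [h2]
      group
    by_contra hne
    have hk : ¬ 7 ∣ k := Nat.not_dvd_of_pos_of_lt (by omega) (by omega)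
    have hgk : g ^ k ∉ Q := fun hq => by
      obtain ⟨m, -, hm⟩ := Nat.exists_mul_mod_eq_one_of_coprime
        ((Nat.prime_seven.coprime_iff_not_dvd.2 hk).symm) (by norm_num : 1 < 7)
      apply hgQ
      have h4 := pow_mem hq m
      rwa [← pow_mul, ← Nat.mod_add_div (k * m) 7, hm, pow_add, pow_mul, hg7, one_pow, mul_one,
        pow_one] at h4
    exact hz1 (D.fpf_of R (pow_mem hg k)
      (by rw [hr7, ← pow_mul, mul_comm, pow_mul, hg7, one_pow]) hgk hz h3)
  have hne : ∀ i j, i % 7 ≠ j % 7 → e i ≠ e j := fun i j hij h => by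
    rw [hmod i, hmod j] at h
    rcases le_total (i % 7) (j % 7) with hl | hl
    · exact hij (hinj _ _ hl (Nat.mod_lt _ (by norm_num)) h)
    · exact hij (hinj _ _ hl (Nat.mod_lt _ (by norm_num)) h.symm).symm
  have hall : ∀ a ∈ (E : Subgroup G), a ≠ 1 → ∃ k, k < 7 ∧ a = e k := by
    letI := Fintype.ofFinite G
    intro a ha ha1
    have hsub : (Finset.range 7).image e ⊆
        (Finset.univ.filter fun x => x ∈ (E : Subgroup G) ∧ x ≠ 1) := by
      intro x hx
      obtain ⟨i, -, rfl⟩ := Finset.mem_image.1 hx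
      simp [heE i, he1 i]
    have hcard : (Finset.univ.filter fun x => x ∈ (E : Subgroup G) ∧ x ≠ 1).card ≤
        ((Finset.range 7).image e).card := by
      rw [Finset.card_image_of_injOn, Finset.card_range]
      · have h := Finset.card_filter_add_card_filter_not
          (s := Finset.univ.filter fun x => x ∈ (E : Subgroup G)) (fun x => x ≠ 1)
        rw [Finset.filter_filter, Finset.filter_filter] at h
        have h1 : (Finset.univ.filter fun x => x ∈ (E : Subgroup G)).card = 8 := by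
          rw [← Fintype.card_subtype, ← Nat.card_eq_fintype_card]; exact h8
        have h2 : 0 < (Finset.univ.filter fun x => x ∈ (E : Subgroup G) ∧ ¬ x ≠ 1).card :=
          Finset.card_pos.2 ⟨1, by simp [one_mem]⟩
        omega
      · intro i hi j hj h
        simp only [Finset.coe_range, Set.mem_Iio] at hi hj
        by_contra hij
        exact hne i j (by rwa [Nat.mod_eq_of_lt hi, Nat.mod_eq_of_lt hj]) h
    have ha' : a ∈ (Finset.range 7).image e := by
      rw [Finset.eq_of_subset_of_card_le hsub hcard]; simp [ha, ha1]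
    obtain ⟨k, hk, hka⟩ := Finset.mem_image.1 ha'
    exact ⟨k, Finset.mem_range.1 hk, hka.symm⟩
  have hcomm : ∀ i j, e i * e j = e j * e i := fun i j => D.commute_E (heE i) (heE j)
  have hsq : ∀ i, e i * e i = 1 := fun i => D.H.mul_self_of_mem_pGroup E.2 (heE i)
  -- the action of `u`
  have hux1 : u • x1 = x0 := by
    rw [hx1, hx0, MulAction.Quotient.smul_coe, smul_eq_mul, Invol.inv_mul_self hu]
  have hux0 : u • x0 = x1 := by
    rw [hx1, hx0, MulAction.Quotient.smul_coe, smul_eq_mul, mul_one]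
  have hzx : u • z • x1 = z • x1 := by
    have hne0 : u • z • x1 ≠ x0 := by
      intro h
      have h2 : z • x1 = x1 := by
        calc z • x1 = u • u • z • x1 := by rw [← mul_smul u u, Invol.inv_mul_self hu, one_smul]
          _ = x1 := by rw [h, hux0]
      rw [hx1, smul_eq_self_iff, Invol.inv_eq hu] at h2
      exact D.conj_notMem hu huM hz hz1 h2
    obtain ⟨q, hq, hqx⟩ := D.Q_transitive R hrp hu huM hne0
    rw [← hx1] at hqx
    have hq1 : q ≠ 1 := by
      intro h
      rw [h, one_smul] at hqx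
      have h2 : z • x1 = x0 := by
        calc z • x1 = u • u • z • x1 := by rw [← mul_smul u u, Invol.inv_mul_self hu, one_smul]
          _ = x0 := by rw [← hqx, hux1]
      exact D.smul_mk_ne huM (le_normalizer hz) h2
    have hdx1 : d • x1 = x1 := by
      rw [hx1, smul_eq_self_iff, Invol.inv_eq hu, mul_assoc, hdu, ← mul_assoc,
        Invol.inv_mul_self hu, one_mul]
      exact hd
    have hdq : (d * q * d⁻¹) • x1 = q • x1 := by
      rw [mul_smul, inv_smul_eq_iff.2 hdx1.symm, mul_smul, hqx]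
      rw [← mul_smul, hdu, mul_smul, ← mul_smul d z, hdz, mul_smul, hdx1]
    have hdq2 := D.Q_semiregular hu huM (D.conj_mem_Q hd hq) hq hdq
    rw [mul_inv_eq_iff_eq_mul] at hdq2
    rw [← hqx, honly q (hQE ▸ hq) hq1 hdq2]
  have hug6 : ∀ i : ℕ, u * g ^ i = g ^ (6 * i) * u := by
    intro i
    have h := conj_pow (a := u) (b := g) (i := i)
    rw [Invol.inv_eq hu, hgi] at h
    have h6 : g⁻¹ = g ^ 6 := inv_eq_of_mul_eq_one_right (by rw [← pow_succ']; exact hg7)
    rw [h6, ← pow_mul] at h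
    calc u * g ^ i = u * g ^ i * u * u := by
          rw [mul_assoc _ u u, Invol.inv_mul_self hu, mul_one]
      _ = g ^ (6 * i) * u := by rw [← h]
  have hex : ∀ i, e i • x1 = g ^ i • z • x1 := by
    intro i
    simp only [e, mul_smul]
    congr 2
    exact inv_smul_eq_iff.2 (hgx i).symm
  have hue : ∀ i, u • e i • x1 = e (6 * i) • x1 := by
    intro i
    rw [hex, hex, ← mul_smul u, hug6, mul_smul, hzx]
  have hEx0 : ∀ i, e i • x0 = x0 := fun i => smul_one_eq_self_iff.2 (le_normalizer (heE i))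
  -- the general step
  have hstep : ∀ j i k, e j * e i = e k → (u * e j) • e i • x1 = e (6 * k % 7) • x1 := by
    intro j i k h
    rw [mul_smul, ← mul_smul (e j), h, hue, hmod]
  have hback : ∀ j, (u * e j) • e j • x1 = x0 := by
    intro j
    rw [mul_smul, ← mul_smul (e j), hsq, one_smul, hux1]
  have hfirst : ∀ j, (u * e j) • x0 = x1 := fun j => by rw [mul_smul, hEx0, hux0]
  have hsecond : ∀ j, (u * e j) • x1 = e (6 * j % 7) • x1 := fun j => by
    rw [mul_smul, hue, hmod]
  have hfin : ∀ w : G, w ^ 9 • x0 = x0 → w ^ 3 • x0 ≠ x0 → False := by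
    intro w h9 h3
    have hd9 : MulAction.period w x0 ∣ 9 := MulAction.pow_smul_eq_iff_period_dvd.1 h9
    have hn3 : ¬ MulAction.period w x0 ∣ 3 := fun h => h3 (MulAction.pow_smul_eq_iff_period_dvd.2 h)
    have hper : MulAction.period w x0 = 9 := by
      obtain ⟨k, hk, hk'⟩ := (Nat.dvd_prime_pow Nat.prime_three).1 (show _ ∣ 3 ^ 2 from hd9)
      interval_cases k
      · rw [hk'] at hn3; simp at hn3
      · rw [hk'] at hn3; simp at hn3
      · simpa using hk'
    have h9o : 9 ∣ orderOf w := hper ▸ MulAction.period_dvd_orderOf w x0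
    rcases D.H.dvd w (hp3 ▸ (dvd_trans (by norm_num : 3 ∣ 9) h9o)) with h | h <;>
      · rw [h, hp3] at h9o; norm_num at h9o
  have hne_x0 : ∀ i, e i • x1 ≠ x0 := fun i => D.smul_mk_ne huM (le_normalizer (heE i))
  -- the two tables
  obtain ⟨k, hk7, hk⟩ := hall (e 0 * e 1) (mul_mem (heE 0) (heE 1)) (fun h => hne 0 1 (by norm_num) (by
    have h2 := congrArg (· * e 1) h
    simpa [mul_assoc, hsq] using h2))
  have hrel : ∀ i, e i * e (i + 1) = e ((i + k) % 7) := by
    intro i
    rw [← hmod, ← hshift i k, ← hk]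
    have h0 : e i = g ^ i * e 0 * (g ^ i)⁻¹ := by rw [hshift]; simp
    have h1 : e (i + 1) = g ^ i * e 1 * (g ^ i)⁻¹ := by rw [hshift]
    rw [h0, h1]; group
  have hflip : ∀ {a b c : ℕ}, e a * e b = e c → e a * e c = e b := fun {a b c} h => by
    rw [← h, ← mul_assoc, hsq, one_mul]
  have R0 : e 0 * e 1 = e (k % 7) := by simpa using hrel 0
  interval_cases k
  · exact he1 1 (mul_left_cancel (a := e 0) (by rw [mul_one]; exact R0))
  · exact he1 0 (mul_right_cancel (b := e 1) (by rw [one_mul]; exact R0))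
  · -- `k = 2`
    have R1 : e 1 * e 2 = e 3 := hrel 1
    have h : e 1 * e 2 = e 0 := hflip ((hcomm 1 0).trans R0)
    exact hne 0 3 (by norm_num) (h.symm.trans R1)
  · -- `k = 3`
    have R1 : e 1 * e 2 = e 4 := hrel 1
    have R5 : e 5 * e 6 = e 1 := hrel 5
    have a6 : e 1 * e 6 = e 5 := by rw [← R5, mul_assoc, hsq, mul_one]
    have a2 : e 1 * e 2 = e 4 := R1
    have a3 : e 1 * e 3 = e 0 := hflip ((hcomm 1 0).trans R0)
    have a0 : e 1 * e 0 = e 3 := (hcomm 1 0).trans R0
    have a4 : e 1 * e 4 = e 2 := hflip R1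
    have a5 : e 1 * e 5 = e 6 := hflip a6
    refine hfin (u * e 1) ?_ ?_
    · simp only [pow_succ, pow_zero, one_mul, mul_smul (_ : G) (u * e 1), hfirst, hsecond,
        hstep 1 6 5 a6, hstep 1 2 4 a2, hstep 1 3 0 a3, hstep 1 0 3 a0, hstep 1 4 2 a4,
        hstep 1 5 6 a5, hback, Nat.reduceMul, Nat.reduceMod]
    · simp only [pow_succ, pow_zero, one_mul, mul_smul (_ : G) (u * e 1), hfirst, hsecond,
        hstep 1 6 5 a6, Nat.reduceMul, Nat.reduceMod]
      exact hne_x0 _
  · -- `k = 4`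
    have R4 : e 4 * e 5 = e 1 := hrel 4
    have h : e 0 * e 4 = e 1 := hflip R0
    exact hne 0 5 (by norm_num) (mul_right_cancel (b := e 4) (by rw [h, hcomm 5 4, R4]))
  · -- `k = 5`
    have R' : ∀ i, e i * e ((i + 2) % 7) = e ((i + 3) % 7) := by
      intro i
      have h := hrel (i + 2)
      rw [show (i + 2 + 5) % 7 = i % 7 by omega, ← hmod i] at h
      rw [← hmod, ← hmod]
      calc e i * e (i + 2) = e (i + 2) * e (i + 2 + 1) * e (i + 2) := by rw [h]
        _ = e (i + 3) := by rw [mul_assoc, hcomm (i + 2 + 1), ← mul_assoc, hsq, one_mul]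
    have b1 : e 6 * e 1 = e 2 := R' 6
    have b5 : e 6 * e 5 = e 3 := by
      have h : e 3 * e 5 = e 6 := R' 3
      rw [← h, mul_assoc, hsq, mul_one]
    have b4 : e 6 * e 4 = e 0 := (hcomm 6 4).trans (R' 4)
    have b0 : e 6 * e 0 = e 4 := hflip b4
    have b3 : e 6 * e 3 = e 5 := hflip b5
    have b2 : e 6 * e 2 = e 1 := hflip b1
    refine hfin (u * e 6) ?_ ?_
    · simp only [pow_succ, pow_zero, one_mul, mul_smul (_ : G) (u * e 6), hfirst, hsecond,
        hstep 6 1 2 b1, hstep 6 5 3 b5, hstep 6 4 0 b4, hstep 6 0 4 b0, hstep 6 3 5 b3,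
        hstep 6 2 1 b2, hback, Nat.reduceMul, Nat.reduceMod]
    · simp only [pow_succ, pow_zero, one_mul, mul_smul (_ : G) (u * e 6), hfirst, hsecond,
        hstep 6 1 2 b1, Nat.reduceMul, Nat.reduceMod]
      exact hne_x0 _
  · -- `k = 6`
    have R6 : e 6 * e 0 = e 5 := by have h := hrel 6; rwa [hmod 7] at h
    have h : e 0 * e 6 = e 1 := hflip R0
    exact hne 1 5 (by norm_num) (by rw [← h, hcomm, R6])

end Ctx

end Cfsg.Agent.H73.TwoP
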