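import Cfsg.Agent.H73.TwoP.Basic
import Cfsg.Agent.S3360
import Mathlib.FieldTheory.Fixed

/-!
# A transitive group of odd order on a 2-group: the fixed-point-free element of prime order
-/

set_option autoImplicit false

namespace Cfsg.Agent.H73.TwoP

open Subgroup

/-- An odd prime `r` dividing `2 ^ a - 1` but not `a`. -/
theorem exists_prime_dvd_two_pow_sub {a : ℕ} (ha : 2 ≤ a) :
    ∃ r : ℕ, r.Prime ∧ r ≠ 2 ∧ r ∣ 2 ^ a - 1 ∧ ¬ r ∣ a := by
  obtain ⟨q, hqmem, hqmax⟩ := Finset.exists_max_image a.primeFactors id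
    (Nat.nonempty_primeFactors.2 (by omega))
  obtain ⟨hq, hqa, -⟩ := Nat.mem_primeFactors.1 hqmem
  have h4 : 4 ≤ 2 ^ q := (show (4 : ℕ) = 2 ^ 2 by rfl) ▸ Nat.pow_le_pow_right (by omega) hq.two_le
  set r := (2 ^ q - 1).minFac with hr
  have hrp : r.Prime := Nat.minFac_prime (by omega)
  haveI := Fact.mk hrp
  have hrd : r ∣ 2 ^ q - 1 := Nat.minFac_dvd _
  have hr2 : r ≠ 2 := fun h => by
    rw [h] at hrd
    obtain ⟨k, hk⟩ := hrd
    have : 2 ∣ 2 ^ q := dvd_pow_self 2 hq.ne_zero
    omega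
  refine ⟨r, hrp, hr2, hrd.trans (Nat.pow_sub_one_dvd_pow_sub_one 2 hqa), fun hra => ?_⟩
  have hle : r ≤ q := hqmax r (Nat.mem_primeFactors.2 ⟨hrp, hra, by omega⟩)
  have h2 : (2 : ZMod r) ≠ 0 := by
    intro h
    have h' : ((2 : ℕ) : ZMod r) = 0 := h
    rw [ZMod.natCast_eq_zero_iff] at h'
    exact hr2 ((Nat.prime_dvd_prime_iff_eq hrp Nat.prime_two).1 h')
  have h1 : (2 : ZMod r) ^ q = 1 := by
    have := (ZMod.natCast_eq_zero_iff (2 ^ q - 1) r).2 hrd
    rw [Nat.cast_sub Nat.one_le_two_pow, sub_eq_zero] at this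
    simpa using this
  haveI := Fact.mk hq
  have ho : orderOf (2 : ZMod r) = q := orderOf_eq_prime h1 (fun h => one_ne_zero (α := ZMod r)
    (by linear_combination h))
  have h5 : q ∣ r - 1 := by rw [← ho]; exact ZMod.orderOf_dvd_card_sub_one h2
  have h6 := hrp.two_le
  have h7 := Nat.le_of_dvd (by omega) h5
  omega

/-- A ring automorphism of prime order of a finite field has fixed field of degree that prime. -/
theorem exists_card_eq_pow {F : Type*} [Field F] [Fintype F] {σ : F ≃+* F} {n : ℕ} (hn : n.Prime)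
    (hσn : σ ^ n = 1) (hσ : σ ≠ 1) :
    Fintype.card F = (Nat.card {x : F // σ x = x}) ^ n := by
  classical
  haveI := Fact.mk hn
  haveI : Finite (F ≃+* F) := Finite.of_injective _ (DFunLike.coe_injective (F := F ≃+* F))
  set M := zpowers σ
  letI : Fintype M := Fintype.ofFinite _
  haveI : FaithfulSMul M F := ⟨fun {a b} h => Subtype.ext (RingEquiv.ext h)⟩
  have hM : Fintype.card M = n := by
    rw [← Nat.card_eq_fintype_card, Nat.card_zpowers]
    exact orderOf_eq_prime hσn hσ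
  have hd := FixedPoints.finrank_eq_card M F
  rw [hM] at hd
  have hc := Module.natCard_eq_pow_finrank (K := FixedPoints.subfield M F) (V := F)
  rw [hd, Nat.card_eq_fintype_card] at hc
  rw [hc]
  congr 1
  refine Nat.card_congr (Equiv.subtypeEquivRight fun x => ?_)
  constructor
  · intro h; exact h ⟨σ, mem_zpowers σ⟩
  · intro h g
    obtain ⟨g, hg⟩ := g
    have : M ≤ MulAction.stabilizer (F ≃+* F) x := zpowers_le.2 h
    exact this hg

variable {G : Type*} [Group G] [Finite G] {p : ℕ}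

/-- The data attached to a transitive normaliser. -/
theorem Hyp.singer (H : Hyp G p) (E : Sylow 2 G) (hcard : 4 ≤ Nat.card (E : Subgroup G))
    (htrans : ∀ x ∈ (E : Subgroup G), ∀ y ∈ (E : Subgroup G), x ≠ 1 → y ≠ 1 →
      ∃ g ∈ normalizer ((E : Subgroup G) : Set G), g * x * g⁻¹ = y) :
    ∃ (c : G) (r : ℕ), r.Prime ∧ r ≠ 2 ∧ orderOf c = r ∧
      c ∈ normalizer ((E : Subgroup G) : Set G) ∧
      (∀ e ∈ (E : Subgroup G), c * e = e * c → e = 1) ∧
      r ∣ Nat.card (E : Subgroup G) - 1 ∧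
      (∀ g ∈ normalizer ((E : Subgroup G) : Set G),
        g ^ r ∈ centralizer ((E : Subgroup G) : Set G) →
        ∃ k : ℕ, (c ^ k)⁻¹ * g ∈ centralizer ((E : Subgroup G) : Set G)) ∧
      (∀ g ∈ normalizer ((E : Subgroup G) : Set G),
        g ^ p ∈ centralizer ((E : Subgroup G) : Set G) → g ∉ centralizer ((E : Subgroup G) : Set G) →
        ∀ e ∈ (E : Subgroup G), e ≠ 1 → g * e = e * g →
          Nat.card ((E : Subgroup G) ⊓ centralizer ({g} : Set G) : Subgroup G) ^ p =
            Nat.card (E : Subgroup G)) := by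
  classical
  haveI : Fact (Nat.Prime 2) := ⟨Nat.prime_two⟩
  set S : Subgroup G := (E : Subgroup G) with hS
  have hE : IsPGroup 2 S := E.2
  letI : CommGroup S :=
    { (inferInstance : Group S) with
      mul_comm := fun a b => Subtype.ext (H.commute_of_mem_pGroup hE a.2 b.2) }
  set A := normalizer (S : Set G)
  set α : A →* MulAut S := S.normalizerMonoidHom
  have hαv : ∀ (g : A) (e : S), ((α g e : S) : G) = g * e * (g : G)⁻¹ := fun g e => by
    simp [α, Subgroup.normalizerMonoidHom]; rfl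
  have hker : ∀ g : A, α g = 1 ↔ (g : G) ∈ centralizer (S : Set G) := fun g => by
    rw [← MonoidHom.mem_ker, normalizerMonoidHom_ker, mem_subgroupOf]
  set Ab := α.range
  have hAb : Odd (Nat.card Ab) := by
    rw [← Nat.not_even_iff_odd, even_iff_two_dvd]
    intro hd
    obtain ⟨⟨b, hb⟩, hbo⟩ := exists_prime_orderOf_dvd_card' 2 hd
    obtain ⟨g, rfl⟩ := hb
    have h1 : α (g ^ orderOf (α g)) = 1 := by rw [map_pow, pow_orderOf_eq_one]
    rw [← Subgroup.orderOf_coe] at hbo
    change orderOf (α g) = 2 at hbo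
    -- a 2-element with the same image lies in `S`
    obtain ⟨k, m, hm, hgm⟩ := Nat.exists_eq_pow_mul_and_not_dvd (n := orderOf g) (orderOf_pos g).ne' 2 (by decide)
    have hm1 : α (g ^ m) = α g := by
      rw [map_pow, ← Nat.mod_add_div m 2, show m % 2 = 1 by omega, pow_add, pow_mul, pow_one]
      rw [show (α g) ^ 2 = 1 by rw [← hbo, pow_orderOf_eq_one], one_pow, mul_one]
    have hg2 : (g ^ m) ^ (2 ^ k) = 1 := by
      rw [← pow_mul, mul_comm, ← hgm, pow_orderOf_eq_one]
    have hsyl : IsPGroup 2 (S ⊔ zpowers ((g ^ m : A) : G) : Subgroup G) := by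
      refine IsPGroup.to_sup_of_normal_left' E.2 ?_ (zpowers_le.2 (g ^ m).2)
      exact IsPGroup.of_card (n := Nat.log 2 (Nat.card (zpowers ((g ^ m : A) : G))))
        (by
          rw [Nat.card_zpowers]
          obtain ⟨j, -, hj⟩ := (Nat.dvd_prime_pow Nat.prime_two).1
            (orderOf_dvd_of_pow_eq_one (x := ((g ^ m : A) : G))
              (n := 2 ^ k) (by simpa [Subtype.ext_iff] using hg2))
          rw [hj, Nat.log_pow one_lt_two])
    have hmem : ((g ^ m : A) : G) ∈ S :=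
      (E.is_maximal' hsyl le_sup_left).le (mem_sup_right (mem_zpowers _))
    have : α (g ^ m) = 1 := (hker _).2 (mem_centralizer_iff.2 fun x hx =>
      (H.commute_of_mem_pGroup hE hx hmem).eq)
    rw [hm1] at this
    rw [this, orderOf_one] at hbo
    omega
  haveI hsol : Group.IsSolvable Ab := Cfsg.Agent.S0205.result hAb
  -- the vector space
  haveI : Module (ZMod 2) (Additive S) := AddCommGroup.zmodModule fun x => by
    rw [two_nsmul]
    exact congrArg Additive.ofMul
      (Subtype.ext (H.mul_self_of_mem_pGroup hE (Additive.toMul x).2) : _ = (1 : S))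
  haveI : Nontrivial S := Finite.one_lt_card_iff_nontrivial.1 (by omega)
  let toLin : MulAut S →* (Additive S ≃ₗ[ZMod 2] Additive S) :=
    { toFun := fun f =>
        { MulEquiv.toAdditive f with
          map_smul' := fun c x => ZMod.map_smul (MulEquiv.toAdditive f) c x }
      map_one' := by ext x; rfl
      map_mul' := fun f g => by ext x; rfl }
  have hinj : Function.Injective (toLin.comp Ab.subtype) := by
    intro f g h
    refine Subtype.ext (MulEquiv.ext fun x => ?_)
    exact Additive.ofMul.injective (LinearEquiv.congr_fun h (Additive.ofMul x))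
  obtain ⟨a, hcarda⟩ := hE.exists_card_eq
  have ha2 : 2 ≤ a := by
    by_contra hlt
    interval_cases a <;> simp_all
  rcases Cfsg.Agent.S3360.result 2 hsol (toLin.comp Ab.subtype) hinj (fun v w hv hw => by
      obtain ⟨g, hg, hgv⟩ := htrans _ (Additive.toMul v).2 _ (Additive.toMul w).2
        (fun h => hv (congrArg Additive.ofMul (Subtype.ext h : Additive.toMul v = 1)))
        (fun h => hw (congrArg Additive.ofMul (Subtype.ext h : Additive.toMul w = 1)))
      exact ⟨⟨α ⟨g, hg⟩, ⟨g, hg⟩, rfl⟩, congrArg Additive.ofMul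
        (Subtype.ext ((hαv _ _).trans hgv) : α ⟨g, hg⟩ (Additive.toMul v) = Additive.toMul w)⟩) with
    ⟨F, _, _, e, he⟩ | hexc
  swap
  · exfalso
    rw [Nat.card_congr Additive.toMul, hcarda] at hexc
    have h2 : 2 ∣ 2 ^ a := dvd_pow_self 2 (by omega)
    simp only [Set.mem_insert_iff, Set.mem_singleton_iff] at hexc
    omega
  -- coordinates
  let T : Ab → F → F := fun g x => e (Additive.ofMul (g.1 (Additive.toMul (e.symm x))))
  have hT : ∀ g x, ∃ y, y = T g x := fun g x => ⟨_, rfl⟩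
  choose μ σ hμσ using he
  have hTe : ∀ g x, T g x = μ g * σ g x := fun g x => by
    have := hμσ g (e.symm x)
    rw [e.apply_symm_apply] at this
    exact this
  have hTmul : ∀ g h x, T (g * h) x = T g (T h x) := fun g h x => by
    simp [T, MulAut.mul_apply]
  have hμ0 : ∀ g, μ g ≠ 0 := fun g h => by
    have h1 := hTe g 1
    rw [h, zero_mul] at h1
    simp [T] at h1
  have hμmul : ∀ g h, μ (g * h) = μ g * σ g (μ h) := fun g h => by
    have h1 := hTmul g h 1
    simpa [hTe] using h1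
  have hσmul : ∀ g h, σ (g * h) = σ g * σ h := fun g h => by
    refine RingEquiv.ext fun x => ?_
    have h1 := hTmul g h x
    simp only [hTe, map_mul, ← mul_assoc, ← hμmul] at h1
    exact mul_left_cancel₀ (hμ0 _) h1
  let π : Ab →* RingAut F := MonoidHom.mk' σ hσmul
  have hπ : ∀ g, π g = σ g := fun g => rfl
  have hcardF : Fintype.card F = 2 ^ a := by
    rw [← Nat.card_eq_fintype_card, ← Nat.card_congr e.toEquiv, Nat.card_congr Additive.toMul, hcarda]
  obtain ⟨r, hr, hr2, hrd, hra⟩ := exists_prime_dvd_two_pow_sub ha2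
  haveI := Fact.mk hr
  have hπr : ∀ g : Ab, g ^ r = 1 → π g = 1 := by
    intro g hg
    by_contra hne
    have h1 := exists_card_eq_pow hr (σ := π g) (by rw [← map_pow, hg, map_one]) hne
    rw [hcardF] at h1
    obtain ⟨b, -, hb⟩ := (Nat.dvd_prime_pow Nat.prime_two).1
      (h1 ▸ dvd_pow_self _ hr.ne_zero : Nat.card {x : F // π g x = x} ∣ 2 ^ a)
    rw [hb, ← pow_mul] at h1
    exact hra ⟨b, by rw [mul_comm]; exact (Nat.pow_right_injective le_rfl h1.symm).symm⟩
  have hker1 : ∀ g : Ab, π g = 1 → ∀ x, T g x = μ g * x := fun g hg x => by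
    rw [hTe, ← hπ, hg]; rfl
  have hμone : ∀ g : Ab, π g = 1 → μ g = 1 → g = 1 := fun g hg hμ1 => by
    refine Subtype.ext (MulEquiv.ext fun x => ?_)
    have := hker1 g hg (e (Additive.ofMul x))
    simp [T, hμ1] at this
    exact this
  -- the element of order `r`
  have hrA : r ∣ Nat.card Ab := by
    obtain ⟨x0, hx0⟩ := exists_ne (1 : S)
    have horb : MulAction.orbit Ab x0 = {x | x ≠ 1} := by
      ext y
      constructor
      · rintro ⟨g, rfl⟩
        exact fun h => hx0 (g.1.injective (h.trans (map_one g.1).symm))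
      · intro hy
        obtain ⟨g, hg, hgv⟩ := htrans x0.1 x0.2 y.1 y.2 (fun h => hx0 (Subtype.ext h))
          (fun h => hy (Subtype.ext h))
        exact ⟨⟨α ⟨g, hg⟩, ⟨g, hg⟩, rfl⟩, Subtype.ext ((hαv _ _).trans hgv)⟩
    have h2 : (MulAction.orbit Ab x0).ncard = 2 ^ a - 1 := by
      rw [horb, ← hcarda, show ({x | x ≠ 1} : Set S) = {1}ᶜ from rfl, Set.ncard_compl,
        Set.ncard_singleton]
    rw [← MulAction.index_stabilizer] at h2
    exact (h2 ▸ hrd).trans (Subgroup.index_dvd_card _)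
  obtain ⟨cb, hcb⟩ := exists_prime_orderOf_dvd_card' r hrA
  obtain ⟨⟨_, g0, rfl⟩, hg0⟩ : ∃ c : Ab, orderOf c = r := ⟨cb, hcb⟩
  obtain ⟨k, m, hm, hgm⟩ :=
    Nat.exists_eq_pow_mul_and_not_dvd (n := orderOf g0) (orderOf_pos g0).ne' r hr.ne_one
  rw [← Subgroup.orderOf_coe] at hg0
  change orderOf (α g0) = r at hg0
  set c : A := g0 ^ m with hcdef
  have hco : orderOf (α c) = r := by
    rw [hcdef, map_pow, Nat.Coprime.orderOf_pow, hg0]
    rw [hg0]
    exact (hr.coprime_iff_not_dvd).2 hm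
  have hcpow : (c : G) ^ (r ^ k) = 1 := by
    rw [hcdef, SubmonoidClass.coe_pow, ← pow_mul, mul_comm, ← hgm, ← SubmonoidClass.coe_pow,
      pow_orderOf_eq_one, OneMemClass.coe_one]
  obtain ⟨j, -, hj⟩ := (Nat.dvd_prime_pow hr).1 (orderOf_dvd_of_pow_eq_one hcpow)
  have hoc : orderOf (c : G) = r := by
    have hrc : r ∣ orderOf (c : G) := by
      rw [← hco, Subgroup.orderOf_coe]; exact orderOf_map_dvd α c
    rcases eq_or_ne r p with hrp | hrp
    · have := orderOf_dvd_of_pow_eq_one (H.pow_p_of_pElem (k := k) (hrp ▸ hcpow))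
      exact Nat.dvd_antisymm (hrp ▸ this) hrc
    -- `c ^ r` centralizes `S`
    obtain ⟨z, hz⟩ := exists_ne (1 : S)
    have hz2 : orderOf (z : G) = 2 := orderOf_eq_prime
      (by rw [pow_two]; exact H.mul_self_of_mem_pGroup hE z.2) (fun h => hz (Subtype.ext h))
    have hcent : ((c : G) ^ r) ∈ centralizer (S : Set G) := by
      rw [← SubmonoidClass.coe_pow, ← hker, map_pow, ← hco, pow_orderOf_eq_one]
    have hodd : Odd (orderOf ((c : G) ^ r)) :=
      ((hr.odd_of_ne_two hr2).pow : Odd (r ^ j)).of_dvd_nat (hj ▸ orderOf_pow_dvd r)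
    have h1 := H.pow_p_eq_one hz2
      (show Commute (z : G) ((c : G) ^ r) from mem_centralizer_iff.1 hcent z z.2) hodd
    rw [← pow_mul] at h1
    have h2 := orderOf_dvd_of_pow_eq_one h1
    rw [hj] at h2 hrc ⊢
    have h3 : r ^ j ∣ r := ((Nat.coprime_primes hr H.hp).2 hrp).pow_left j |>.dvd_of_dvd_mul_right h2
    exact Nat.dvd_antisymm h3 hrc
  have hcr : (⟨α c, c, rfl⟩ : Ab) ^ r = 1 :=
    Subtype.ext (by rw [SubmonoidClass.coe_pow, ← hco, pow_orderOf_eq_one]; rfl)
  have hc1 : (⟨α c, c, rfl⟩ : Ab) ≠ 1 := fun h => by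
    have : α c = 1 := congrArg Subtype.val h
    rw [this, orderOf_one] at hco
    exact hr.ne_one hco.symm
  have hπc := hπr _ hcr
  have hμc : μ ⟨α c, c, rfl⟩ ≠ 1 := fun h => hc1 (hμone _ hπc h)
  have hfix : ∀ (g : A) (x : S), (g : G) * x = x * g ↔ T ⟨α g, g, rfl⟩ (e (Additive.ofMul x)) = e (Additive.ofMul x) := by
    intro g x
    simp only [T, e.symm_apply_apply, e.injective.eq_iff, toMul_ofMul, Additive.ofMul.injective.eq_iff,
      Subtype.ext_iff, hαv, mul_inv_eq_iff_eq_mul]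
  refine ⟨c, r, hr, hr2, hoc, c.2, fun x hx hxc => ?_, hcarda ▸ hrd, fun g hg hgr => ?_,
    fun g hg hgp hgC x hx hx1 hgx => ?_⟩
  · have h1 := (hfix c ⟨x, hx⟩).1 hxc
    rw [hker1 _ hπc] at h1
    by_contra hx1
    refine hμc (mul_right_cancel₀ ?_ (h1.trans (one_mul _).symm))
    intro h
    rw [map_eq_zero_iff _ e.injective] at h
    exact hx1 (congrArg Subtype.val (congrArg Additive.toMul h))
  · set gb : Ab := ⟨α ⟨g, hg⟩, _, rfl⟩
    set cb' : Ab := ⟨α c, c, rfl⟩
    have hgb : gb ^ r = 1 := Subtype.ext (by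
      rw [SubmonoidClass.coe_pow]
      show α ⟨g, hg⟩ ^ r = 1
      rw [← map_pow, hker]; simpa using hgr)
    have hμpow : ∀ b : Ab, π b = 1 → ∀ n : ℕ, μ (b ^ n) = μ b ^ n := by
      intro b hb n
      induction n with
      | zero =>
        have h1 := hμmul (1 : Ab) 1
        rw [mul_one, ← hπ, map_one] at h1
        change μ 1 = μ 1 * μ 1 at h1
        simpa using (mul_left_cancel₀ (hμ0 1) ((mul_one _).trans h1)).symm
      | succ n ih =>
        rw [pow_succ', hμmul, ← hπ, hb, ih, pow_succ']; rfl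
    have hμ1 : μ (1 : Ab) = 1 := by simpa using hμpow 1 (map_one π) 0
    have hpr : IsPrimitiveRoot (μ cb') r := by
      rw [IsPrimitiveRoot.iff_orderOf]
      exact orderOf_eq_prime (by rw [← hμpow _ hπc, hcr, hμ1]) hμc
    obtain ⟨k, -, hk⟩ := hpr.eq_pow_of_pow_eq_one (ξ := μ gb)
      (by rw [← hμpow _ (hπr _ hgb), hgb, hμ1])
    refine ⟨k, ?_⟩
    have h1 : (cb' ^ k)⁻¹ * gb = 1 := by
      rw [inv_mul_eq_one]
      by_contra hne
      apply hne
      have hπeq : π (gb⁻¹ * cb' ^ k) = 1 := by rw [map_mul, map_inv, map_pow, hπc, hπr _ hgb]; simp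
      have h2 : μ (gb * (gb⁻¹ * cb' ^ k)) = μ gb * μ (gb⁻¹ * cb' ^ k) := by
        rw [hμmul, ← hπ, hπr _ hgb]; rfl
      rw [mul_inv_cancel_left, hμpow _ hπc, hk] at h2
      have h3 := hμone _ hπeq (mul_left_cancel₀ (hμ0 gb) (h2.symm.trans (mul_one _).symm))
      rw [inv_mul_eq_one] at h3
      exact h3.symm
    have h2 := congrArg Subtype.val h1
    have h3 : α ((c ^ k)⁻¹ * ⟨g, hg⟩) = 1 := by
      rw [map_mul, map_inv, map_pow]; exact h2
    simpa using (hker _).1 h3
  · set gb : Ab := ⟨α ⟨g, hg⟩, _, rfl⟩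
    have hgb : gb ^ p = 1 := Subtype.ext (by
      rw [SubmonoidClass.coe_pow]
      show α ⟨g, hg⟩ ^ p = 1
      rw [← map_pow, hker]; simpa using hgp)
    have hx' := (hfix ⟨g, hg⟩ ⟨x, hx⟩).1 hgx
    change T gb _ = _ at hx'
    set x0 := e (Additive.ofMul (⟨x, hx⟩ : S))
    have hx0 : x0 ≠ 0 := fun h => by
      rw [map_eq_zero_iff _ e.injective] at h
      exact hx1 (congrArg Subtype.val (congrArg Additive.toMul h))
    have hπg : π gb ≠ 1 := by
      intro h
      rw [hker1 _ h] at hx'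
      have hμ1 : μ gb = 1 := mul_right_cancel₀ hx0 (hx'.trans (one_mul _).symm)
      exact hgC ((hker ⟨g, hg⟩).1 (congrArg Subtype.val (hμone _ h hμ1)))
    have hF := exists_card_eq_pow H.hp (σ := π gb) (by rw [← map_pow, hgb, map_one]) hπg
    rw [hcarda, ← hcardF, hF]
    congr 1
    refine Nat.card_congr (Equiv.ofBijective
      (fun y => ⟨e (Additive.ofMul (⟨y.1, y.2.1⟩ : S)) / x0, ?_⟩) ⟨?_, ?_⟩)
    · have h1 := (hfix ⟨g, hg⟩ ⟨y.1, y.2.1⟩).1 (mem_centralizer_singleton_iff.1 y.2.2).symm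
      change T gb _ = _ at h1
      rw [hTe] at h1 hx'
      show σ gb _ = _
      rw [map_div₀, div_eq_div_iff (by simpa using hx0) hx0]
      exact mul_left_cancel₀ (hμ0 gb) (by rw [← mul_assoc, h1, ← mul_assoc, mul_comm (μ gb), mul_assoc, hx'])
    · intro y z h
      simp only [Subtype.mk.injEq, div_left_inj' hx0] at h
      exact Subtype.ext (congrArg (fun s : S => (s : G)) (Additive.ofMul.injective (e.injective h)))
    · rintro ⟨f, hf⟩
      set s : S := Additive.toMul (e.symm (f * x0))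
      have hs : T gb (e (Additive.ofMul s)) = e (Additive.ofMul s) := by
        simp only [s, ofMul_toMul, e.apply_symm_apply]
        rw [hTe] at hx' ⊢
        rw [map_mul]
        change π gb f = f at hf
        rw [hπ] at hf
        rw [hf, mul_left_comm, hx']
      refine ⟨⟨s.1, s.2, mem_centralizer_singleton_iff.2 ((hfix ⟨g, hg⟩ s).2 hs).symm⟩, ?_⟩
      refine Subtype.ext ?_
      simp [s, hx0]

end Cfsg.Agent.H73.TwoP
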