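import Cfsg.Agent.H73.TwoP.Count
import Cfsg.Agent.H73.TwoP.Singer

/-!
# The two fixed points of an element of order `r`
-/

set_option autoImplicit false

namespace Cfsg.Agent.H73.TwoP

open Subgroup

variable {G : Type*} [Group G] [Finite G] {p : ℕ}

/-- A permutation of prime-power order: fixed points count modulo the prime. -/
theorem card_modEq_fixed {α : Type*} [Finite α] {q : ℕ} [Fact q.Prime] (σ : Equiv.Perm α)
    (hσ : σ ^ q = 1) : Nat.card {a : α // σ a = a} ≡ Nat.card α [MOD q] := by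
  classical
  letI := Fintype.ofFinite α
  have h := Equiv.Perm.card_compl_support_modEq (n := 1) (by rwa [pow_one] : σ ^ q ^ 1 = 1)
  rw [Nat.card_eq_fintype_card, Nat.card_eq_fintype_card]
  convert h using 2
  rw [Fintype.card_subtype]
  congr 1
  ext a
  simp

/-- Conjugation of `X` by `g ∈ N(X)` as a permutation; its fixed points are `X ⊓ C(g)`. -/
theorem card_inf_centralizer_modEq {q : ℕ} [Fact q.Prime] {X : Subgroup G} {g : G}
    (hg : g ∈ normalizer (X : Set G)) (hgq : ∀ x ∈ X, g ^ q * x = x * g ^ q) :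
    Nat.card (X ⊓ centralizer ({g} : Set G) : Subgroup G) ≡ Nat.card X [MOD q] := by
  let σ : Equiv.Perm X := (X.normalizerMonoidHom ⟨g, hg⟩).toEquiv
  have hσv : ∀ x : X, ((σ x : X) : G) = g * x * g⁻¹ := fun x => by
    simp [σ, Subgroup.normalizerMonoidHom]; rfl
  have hpow : ∀ (n : ℕ) (x : X), (((σ ^ n) x : X) : G) = g ^ n * x * (g ^ n)⁻¹ := by
    intro n
    induction n with
    | zero => simp
    | succ n ih =>
      intro x
      rw [pow_succ', Equiv.Perm.mul_apply, hσv, ih, pow_succ']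
      group
  have hσ : σ ^ q = 1 := Equiv.ext fun x => Subtype.ext (by
    rw [hpow, hgq x x.2, mul_inv_cancel_right]; rfl)
  suffices hc : Nat.card (X ⊓ centralizer ({g} : Set G) : Subgroup G) =
      Nat.card {x : X // σ x = x} by rw [hc]; exact card_modEq_fixed σ hσ
  refine Nat.card_congr
    { toFun := fun x => ⟨⟨x.1, x.2.1⟩, Subtype.ext (by
        rw [hσv, show g * x.1 = x.1 * g from (mem_centralizer_singleton_iff.1 x.2.2).symm,
          mul_inv_cancel_right])⟩
      invFun := fun x => ⟨x.1.1, x.1.2, mem_centralizer_singleton_iff.2 (by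
        have := congrArg Subtype.val x.2
        rw [hσv, mul_inv_eq_iff_eq_mul] at this
        exact this.symm)⟩
      left_inv := fun x => rfl
      right_inv := fun x => rfl }

/-- The element of order `r` acting fixed-point-freely. -/
structure Data (E : Sylow 2 G) (p : ℕ) (c : G) (r : ℕ) : Prop where
  hr : r.Prime
  hr2 : r ≠ 2
  hc : orderOf c = r
  hcM : c ∈ normalizer ((E : Subgroup G) : Set G)
  fpf : ∀ e ∈ (E : Subgroup G), c * e = e * c → e = 1
  hrd : r ∣ Nat.card (E : Subgroup G) - 1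
  uniq : ∀ g ∈ normalizer ((E : Subgroup G) : Set G),
    g ^ r ∈ centralizer ((E : Subgroup G) : Set G) →
    ∃ k : ℕ, (c ^ k)⁻¹ * g ∈ centralizer ((E : Subgroup G) : Set G)
  field : ∀ g ∈ normalizer ((E : Subgroup G) : Set G),
    g ^ p ∈ centralizer ((E : Subgroup G) : Set G) → g ∉ centralizer ((E : Subgroup G) : Set G) →
    ∀ e ∈ (E : Subgroup G), e ≠ 1 → g * e = e * g →
      Nat.card ((E : Subgroup G) ⊓ centralizer ({g} : Set G) : Subgroup G) ^ p =
        Nat.card (E : Subgroup G)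

namespace Ctx

variable {E : Sylow 2 G} [IsSimpleGroup G] (D : Ctx E p)
include D

local notation "M" => normalizer ((E : Subgroup G) : Set G)
local notation "Q" => centralizer ((E : Subgroup G) : Set G)

theorem exists_data : ∃ c r, Data E p c r := by
  obtain ⟨c, r, h1, h2, h3, h4, h5, h6, h7, h8⟩ := D.H.singer E D.hcard
    fun x hx y hy hx1 hy1 => D.setting.transitive D.H hx hy hx1 hy1
  exact ⟨c, r, h1, h2, h3, h4, h5, h6, h7, h8⟩

omit D in
theorem Q_le : Q ≤ M := centralizer_le_normalizer _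

omit D in
theorem E_comm {q e : G} (hq : q ∈ Q) (he : e ∈ (E : Subgroup G)) : q * e = e * q :=
  (mem_centralizer_iff.1 hq e he).symm

theorem conj_mem_Q {g a : G} (hg : g ∈ M) (ha : a ∈ Q) : g * a * g⁻¹ ∈ Q := by
  rw [mem_centralizer_iff]
  intro e he
  have h := D.conj_mem_E (inv_mem hg) he
  rw [inv_inv] at h
  have h2 := E_comm ha h
  calc e * (g * a * g⁻¹) = g * ((g⁻¹ * e * g) * a) * g⁻¹ := by group
    _ = g * (a * (g⁻¹ * e * g)) * g⁻¹ := by rw [h2]
    _ = g * a * g⁻¹ * e := by group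

theorem pow_p_of_Q {k : G} (hk : k ∈ Q) (ho : Odd (orderOf k)) : k ^ p = 1 := by
  obtain ⟨z, hz, hz1⟩ := D.exists_ne_one
  exact D.H.pow_p_eq_one (D.H.orderOf_mem hz hz1) (E_comm hk hz).symm ho

variable {u : G} (hu : orderOf u = 2) (huM : u ∉ normalizer ((E : Subgroup G) : Set G))
include hu huM

theorem eq_one_of_both {k : G} (hk : k ∈ Q) (huk : u * k * u ∈ Q) : k = 1 := by
  by_contra h1
  have ho := D.odd_of_mem hu huM (Q_le hk) (Q_le huk)
  haveI := Fact.mk D.H.hp
  have hkp : orderOf k = p := orderOf_eq_prime (D.pow_p_of_Q hk ho) h1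
  obtain ⟨z, hz, hz1⟩ := D.exists_ne_one
  refine D.conj_notMem hu huM hz hz1 (D.centralizer_le (fun e he => E_comm hk he) hkp
    (mem_centralizer_singleton_iff.2 ?_))
  have h := E_comm huk hz
  calc u * z * u * k = u * (z * (u * k * u)) * u := by
        simp only [mul_assoc, Invol.inv_mul_self hu, mul_one]
    _ = k * (u * z * u) := by
        rw [← h]; simp only [mul_assoc, Invol.mul_self_cancel hu]

/-- `C(E) ∩ uMu = 1`. -/
theorem Q_inter_eq_one {y : G} (hy : y ∈ Q) (huy : u * y * u ∈ M) : y = 1 := by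
  by_contra hy1
  haveI := Fact.mk D.H.hp
  have hodd := D.odd_of_mem hu huM (Q_le hy) huy
  have hyp : orderOf y = p := orderOf_eq_prime (D.pow_p_of_Q hy hodd) hy1
  set y' := u * y * u with hy'
  have huy' : u * y' * u = y := by
    simp only [hy', mul_assoc, Invol.mul_self_cancel hu, Invol.inv_mul_self hu, mul_one]
  have hcomm : y * y' = y' * y := by
    have hk : y * y' * y⁻¹ * y'⁻¹ = 1 := by
      refine D.eq_one_of_both hu huM ?_ ?_
      · have h := D.conj_mem_Q huy (inv_mem hy)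
        have : y * y' * y⁻¹ * y'⁻¹ = y * (y' * y⁻¹ * y'⁻¹) := by group
        rw [this]
        exact mul_mem hy h
      · have e : u * (y * y' * y⁻¹ * y'⁻¹) * u = y' * y * y'⁻¹ * y⁻¹ := by
          calc u * (y * y' * y⁻¹ * y'⁻¹) * u
              = (u * y * u) * (u * y' * u) * (u * y * u)⁻¹ * (u * y' * u)⁻¹ := by
                simp only [mul_inv_rev, Invol.inv_eq hu, mul_assoc, Invol.mul_self_cancel hu]
            _ = y' * y * y'⁻¹ * y⁻¹ := by rw [huy']
        rw [e]
        have h := D.conj_mem_Q huy hy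
        exact mul_mem h (inv_mem hy)
    have h2 := congrArg (fun a => a * y' * y) hk
    simpa [mul_assoc] using h2
  have hne : y ≠ y' := fun h => hy1 (D.eq_one_of_both hu huM hy (by rw [← hy', ← h]; exact hy))
  have hne' : y * y' ≠ 1 := fun h => hy1 (D.eq_one_of_both hu huM hy (by
    rw [← hy', eq_inv_of_mul_eq_one_right h]; exact inv_mem hy))
  set r0 := y * y' with hr0
  have hy'p : y' ^ p = 1 := by
    have h := conj_pow (a := u) (b := y) (i := p)
    rw [Invol.inv_eq hu] at h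
    rw [hy', h, ← hyp, pow_orderOf_eq_one, mul_one, Invol.inv_mul_self hu]
  have hr0o : orderOf r0 = p := orderOf_eq_prime
    (by rw [hr0, Commute.mul_pow hcomm, hy'p, mul_one, ← hyp, pow_orderOf_eq_one]) hne'
  have hur : u * r0 = r0 * u := by
    have h3 : u * r0 * u = r0 := by
      calc u * r0 * u = (u * y * u) * (u * y' * u) := by
            simp only [hr0, mul_assoc, Invol.mul_self_cancel hu]
        _ = r0 := by rw [huy', ← hy', hr0]; exact hcomm.symm
    calc u * r0 = u * r0 * (u * u) := by rw [Invol.inv_mul_self hu, mul_one]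
      _ = r0 * u := by rw [← mul_assoc, h3]
  obtain ⟨z, hz, hz1⟩ := D.exists_ne_one
  obtain ⟨g, hg⟩ := isConj_iff.1 (D.isConj_invol hu hz hz1)
  have hr1 : orderOf (g⁻¹ * r0 * g) = p := by
    have := Invol.orderOf_conj g⁻¹ r0
    rwa [inv_inv, hr0o] at this
  have hr1c : z * (g⁻¹ * r0 * g) = (g⁻¹ * r0 * g) * z := by
    calc z * (g⁻¹ * r0 * g) = g⁻¹ * ((g * z * g⁻¹) * r0) * g := by group
      _ = g⁻¹ * (r0 * (g * z * g⁻¹)) * g := by rw [hg, hur]
      _ = (g⁻¹ * r0 * g) * z := by group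
  have hr1M : g⁻¹ * r0 * g ∈ M := D.hC z hz hz1 (mem_centralizer_singleton_iff.2 hr1c.symm)
  -- `y'` acts fixed-point-freely, so `p ∣ |E| - 1`
  have hfix : (E : Subgroup G) ⊓ centralizer ({y'} : Set G) = ⊥ := by
    rw [eq_bot_iff]
    rintro a ⟨ha, hay⟩
    by_contra ha1
    refine D.conj_notMem hu huM ha ha1 (D.centralizer_le (fun e he => E_comm hy he) hyp
      (mem_centralizer_singleton_iff.2 ?_))
    have h := mem_centralizer_singleton_iff.1 hay
    rw [← huy']
    calc u * a * u * (u * y' * u) = u * (a * y') * u := by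
          simp only [mul_assoc, Invol.mul_self_cancel hu]
      _ = u * y' * u * (u * a * u) := by
          rw [h]; simp only [mul_assoc, Invol.mul_self_cancel hu]
  have h1 := card_inf_centralizer_modEq (q := p) huy (X := (E : Subgroup G))
    (fun x _ => by rw [hy'p, one_mul, mul_one])
  rw [hfix, card_bot] at h1
  have h2 := card_inf_centralizer_modEq (q := p) hr1M (X := (E : Subgroup G))
    (fun x _ => by rw [← hr1, pow_orderOf_eq_one, one_mul, mul_one])
  set X := (E : Subgroup G) ⊓ centralizer ({g⁻¹ * r0 * g} : Set G) with hX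
  have hzX : z ∈ X := ⟨hz, mem_centralizer_singleton_iff.2 hr1c⟩
  have h3 : 2 < Nat.card X := by
    have h4 : 1 < Nat.card X := one_lt_card_iff_ne_bot X |>.2
      fun h => hz1 (mem_bot.1 (h ▸ hzX))
    by_contra hle
    have h5 : Nat.card X = 2 := by omega
    rw [h5] at h2
    have h6 : 2 ≡ 1 [MOD p] := h2.trans h1.symm
    have := (Nat.modEq_iff_dvd' (by omega)).1 h6.symm
    exact D.H.hp.one_lt.ne' (Nat.dvd_one.1 this)
  obtain ⟨b, hbX, hb1, hbz⟩ : ∃ b ∈ X, b ≠ 1 ∧ b ≠ z := by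
    by_contra h
    push Not at h
    have hsub : (X : Set G) ⊆ {1, z} := fun b hb => by
      by_cases h1 : b = 1
      · exact Or.inl h1
      · exact Or.inr (h b hb h1)
    have h6 := Set.ncard_le_ncard hsub (Set.toFinite _)
    rw [← Nat.card_coe_set_eq, Set.ncard_pair (Ne.symm hz1)] at h6
    simp only [SetLike.coe_sort_coe] at h6
    omega
  have hle := D.setting.centralizer_le_of_two D.H hr1 hbX.1 hz hb1 hz1 hbz
    (mem_centralizer_singleton_iff.1 hbX.2).symm hr1c.symm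
  have hgy : g⁻¹ * y * g ∈ M := hle (mem_centralizer_singleton_iff.2 (by
    calc g⁻¹ * y * g * (g⁻¹ * r0 * g) = g⁻¹ * (y * r0) * g := by group
      _ = g⁻¹ * (r0 * y) * g := by
          rw [show y * r0 = r0 * y by rw [hr0, mul_assoc y y' y, ← hcomm]]
      _ = g⁻¹ * r0 * g * (g⁻¹ * y * g) := by group))
  have he2 := mul_mem (D.conj_mem_E hgy hz) hz
  have e3 : g⁻¹ * y * g * z * (g⁻¹ * y * g)⁻¹ * z = g⁻¹ * (y * y'⁻¹) * g := by
    have e4 : y'⁻¹ = u * y⁻¹ * u := by
      rw [hy', mul_inv_rev, mul_inv_rev, Invol.inv_eq hu, mul_assoc]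
    rw [e4, ← hg]
    group
  rw [e3] at he2
  have hsq : (y * y'⁻¹) * (y * y'⁻¹) = 1 := by
    have := D.H.mul_self_of_mem_pGroup E.2 he2
    calc (y * y'⁻¹) * (y * y'⁻¹)
        = g * ((g⁻¹ * (y * y'⁻¹) * g) * (g⁻¹ * (y * y'⁻¹) * g)) * g⁻¹ := by group
      _ = 1 := by rw [this]; group
  have hm2 : u * (y * y'⁻¹) * u ∈ M := by
    have e : u * (y * y'⁻¹) * u = (u * y * u) * (u * y' * u)⁻¹ := by
      simp only [mul_inv_rev, Invol.inv_eq hu, mul_assoc, Invol.mul_self_cancel hu]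
    rw [e, huy']
    exact mul_mem huy (inv_mem (Q_le hy))
  obtain ⟨j, hj⟩ := D.odd_of_mem hu huM (mul_mem (Q_le hy) (inv_mem huy)) hm2
  have h4 := pow_orderOf_eq_one (y * y'⁻¹)
  rw [hj, pow_succ, pow_mul, pow_two, hsq, one_pow, one_mul, mul_inv_eq_one] at h4
  exact hne h4

omit hu huM

variable {c : G} {r : ℕ} (R : Data E p c r)
include R

/-- An element of `M` of order `r` outside `C(E)` is fixed-point-free. -/
theorem fpf_of {g e : G} (hg : g ∈ M) (hgr : g ^ r = 1) (hgQ : g ∉ Q)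
    (he : e ∈ (E : Subgroup G)) (hc : g * e = e * g) : e = 1 := by
  obtain ⟨k, hk⟩ := R.uniq g hg (by rw [hgr]; exact one_mem _)
  have hrk : ¬ r ∣ k := by
    rintro ⟨j, rfl⟩
    rw [pow_mul, ← R.hc, pow_orderOf_eq_one, one_pow, inv_one, one_mul] at hk
    exact hgQ hk
  have h1 : Commute (c ^ k) e := by
    have h2 := E_comm hk he
    show c ^ k * e = e * c ^ k
    calc c ^ k * e = c ^ k * (e * ((c ^ k)⁻¹ * g)) * ((c ^ k)⁻¹ * g)⁻¹ := by group
      _ = c ^ k * ((c ^ k)⁻¹ * g * e) * ((c ^ k)⁻¹ * g)⁻¹ := by rw [h2]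
      _ = g * e * g⁻¹ * c ^ k := by group
      _ = e * c ^ k := by rw [hc]; group
  obtain ⟨j, -, hj⟩ := Nat.exists_mul_mod_eq_one_of_coprime
    ((R.hr.coprime_iff_not_dvd.2 hrk).symm) R.hr.one_lt
  have h3 := h1.pow_left j
  rw [← pow_mul, ← Nat.mod_add_div (k * j) r, hj, pow_add, pow_mul, ← R.hc, pow_orderOf_eq_one,
    one_pow, mul_one, pow_one] at h3
  exact R.fpf e he h3

include hu huM

theorem notQ {g : G} (hg1 : g ≠ 1) (hug : u * g * u ∈ M) : g ∉ Q :=
  fun h => hg1 (D.Q_inter_eq_one hu huM h hug)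

/-- Uniqueness of the subgroup of order `r` in `M ∩ uMu`. -/
theorem D_uniq {g g' : G} (hg : g ∈ M) (hug : u * g * u ∈ M) (hgr : g ^ r = 1) (hg1 : g ≠ 1)
    (hg' : g' ∈ M) (hug' : u * g' * u ∈ M) (hgr' : g' ^ r = 1) : ∃ j : ℕ, g' = g ^ j := by
  haveI := Fact.mk R.hr
  obtain ⟨k, hk⟩ := R.uniq g hg (by rw [hgr]; exact one_mem _)
  obtain ⟨l, hl⟩ := R.uniq g' hg' (by rw [hgr']; exact one_mem _)
  have hrk : ¬ r ∣ k := by
    rintro ⟨i, rfl⟩
    rw [pow_mul, ← R.hc, pow_orderOf_eq_one, one_pow, inv_one, one_mul] at hk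
    exact D.notQ hu huM R hg1 hug hk
  obtain ⟨m, -, hm⟩ := Nat.exists_mul_mod_eq_one_of_coprime
    ((R.hr.coprime_iff_not_dvd.2 hrk).symm) R.hr.one_lt
  set α := ((E : Subgroup G)).normalizerMonoidHom
  have hker : ∀ x : M, α x = 1 ↔ (x : G) ∈ Q := fun x => by
    rw [← MonoidHom.mem_ker, normalizerMonoidHom_ker, mem_subgroupOf]
  let cM : M := ⟨c, R.hcM⟩
  have e1 : α ⟨g, hg⟩ = α cM ^ k := by
    rw [← map_pow, ← inv_mul_eq_one, ← map_inv, ← map_mul, hker]
    have := inv_mem hk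
    simpa [cM] using this
  have e2 : α ⟨g', hg'⟩ = α cM ^ l := by
    rw [← map_pow, ← inv_mul_eq_one, ← map_inv, ← map_mul, hker]
    have := inv_mem hl
    simpa [cM] using this
  have hcr : α cM ^ r = 1 := by
    rw [← map_pow, show cM ^ r = 1 from Subtype.ext (by simp [cM, ← R.hc, pow_orderOf_eq_one]), map_one]
  have e3 : α (⟨g, hg⟩ ^ (m * l)) = α ⟨g', hg'⟩ := by
    rw [map_pow, e1, e2, ← pow_mul, ← mul_assoc, pow_mul, ← Nat.mod_add_div (k * m) r, hm, pow_add,
      pow_one, pow_mul (α cM) r, hcr, one_pow, mul_one]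
  refine ⟨m * l, ?_⟩
  have e4 : (g ^ (m * l))⁻¹ * g' ∈ Q := by
    have := (hker ((⟨g, hg⟩ ^ (m * l))⁻¹ * ⟨g', hg'⟩)).1 (by rw [map_mul, map_inv, e3, inv_mul_cancel])
    simpa using this
  have e5 : u * ((g ^ (m * l))⁻¹ * g') * u ∈ M := by
    have e : u * ((g ^ (m * l))⁻¹ * g') * u = ((u * g * u) ^ (m * l))⁻¹ * (u * g' * u) := by
      have h := conj_pow (a := u) (b := g) (i := m * l)
      rw [Invol.inv_eq hu] at h
      rw [h]
      simp only [mul_inv_rev, Invol.inv_eq hu, mul_assoc, Invol.mul_self_cancel hu]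
    rw [e]
    exact mul_mem (inv_mem (pow_mem hug _)) hug'
  have := D.Q_inter_eq_one hu huM e4 e5
  rw [inv_mul_eq_one] at this
  exact this.symm

/-- `M ∩ uMu` contains an element of order `r`. -/
theorem exists_D_elem : ∃ g : G, g ∈ M ∧ u * g * u ∈ M ∧ orderOf g = r := by
  classical
  haveI := Fact.mk R.hr
  obtain ⟨z, hz, hz1⟩ := D.exists_ne_one
  let K : Subgroup G := M ⊓ (M).comap (MulAut.conj u).toMonoidHom
  have hK : ∀ x, x ∈ K ↔ x ∈ M ∧ u * x * u ∈ M := fun x => by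
    simp only [K, mem_inf, mem_comap]
    simp [Invol.inv_eq hu]
  letI : MulAction K G := MulAction.compHom G ((ConjAct.toConjAct.toMonoidHom).comp K.subtype)
  have hsmul : ∀ (k : K) (x : G), k • x = (k : G) * x * (k : G)⁻¹ := fun k x => by
    show ConjAct.toConjAct (k : G) • x = _
    rw [ConjAct.toConjAct_smul]
  have horb : MulAction.orbit K z = ((E : Subgroup G) : Set G) \ {1} := by
    ext e
    constructor
    · rintro ⟨k, rfl⟩
      have hkm := ((hK k).1 k.2).1
      simp only [hsmul]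
      exact ⟨D.conj_mem_E hkm hz, fun h => hz1 (conj_eq_one_iff.1 h)⟩
    · rintro ⟨he, he1⟩
      obtain ⟨h, hh, hi, hhe⟩ := D.fiber_surjective.2 u hu huM z hz hz1 e he (by simpa using he1)
      refine ⟨⟨h⁻¹, (hK _).2 ⟨inv_mem hh, ?_⟩⟩, ?_⟩
      · have : u * h⁻¹ * u = h := by
          rw [← hi]
          simp only [mul_assoc, Invol.mul_self_cancel hu, Invol.inv_mul_self hu, mul_one]
        rw [this]; exact hh
      · simp only [hsmul, inv_inv]; exact hhe
  have hd : r ∣ Nat.card K := by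
    refine R.hrd.trans (dvd_trans ?_ (Subgroup.index_dvd_card (MulAction.stabilizer K z)))
    rw [MulAction.index_stabilizer, horb, Set.ncard_sdiff (by simp [one_mem]) (Set.toFinite _),
      Set.ncard_singleton, ← Nat.card_coe_set_eq]
    rfl
  obtain ⟨g, hg⟩ := exists_prime_orderOf_dvd_card' r hd
  exact ⟨g, ((hK g).1 g.2).1, ((hK g).1 g.2).2, by rw [Subgroup.orderOf_coe]; exact hg⟩

/-- `u` inverts the elements of order `r` of `M ∩ uMu`. -/
theorem inverts {g : G} (hg : g ∈ M) (hug : u * g * u ∈ M) (hgo : orderOf g = r) :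
    u * g * u = g⁻¹ := by
  haveI := Fact.mk R.hr
  have hgr : g ^ r = 1 := by rw [← hgo, pow_orderOf_eq_one]
  have hg1 : g ≠ 1 := fun h => by rw [h, orderOf_one] at hgo; exact R.hr.ne_one hgo.symm
  have huu : u * (u * g * u) * u = g := by
    simp only [mul_assoc, Invol.mul_self_cancel hu, Invol.inv_mul_self hu, mul_one]
  have hpw : ∀ n : ℕ, (u * g * u) ^ n = u * g ^ n * u := fun n => by
    have h := conj_pow (a := u) (b := g) (i := n)
    rwa [Invol.inv_eq hu] at h
  obtain ⟨j, hj⟩ := D.D_uniq hu huM R hg hug hgr hg1 hug (by rw [huu]; exact hg)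
    (by rw [hpw, hgr, mul_one, Invol.inv_mul_self hu])
  have hjj : g ^ (j * j) = g := by
    rw [pow_mul, ← hj, hpw, ← hj, huu]
  have hz1 : ((j : ZMod r) * j : ZMod r) = 1 := by
    have := (pow_eq_pow_iff_modEq (x := g) (n := j * j) (m := 1)).1 (by rw [hjj, pow_one])
    rw [hgo, ← ZMod.natCast_eq_natCast_iff] at this
    simpa using this
  rcases mul_self_eq_one_iff.1 hz1 with h | h
  swap
  · rw [hj, eq_inv_iff_mul_eq_one, ← pow_succ]
    refine orderOf_dvd_iff_pow_eq_one.1 ?_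
    rw [hgo, ← ZMod.natCast_eq_zero_iff]
    push_cast
    rw [h]; ring
  exfalso
  have hug0 : u * g * u = g := by
    rw [hj]
    conv_rhs => rw [← pow_one g]
    rw [pow_eq_pow_iff_modEq, hgo, ← ZMod.natCast_eq_natCast_iff]
    simpa using h
  obtain ⟨z, hz, hz1'⟩ := D.exists_ne_one
  obtain ⟨x, hx⟩ := isConj_iff.1 (D.isConj_invol hu hz hz1')
  set g' := x⁻¹ * g * x with hg'
  have hg'o : orderOf g' = r := by
    have := Invol.orderOf_conj x⁻¹ g
    rwa [inv_inv, hgo] at this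
  have hg'c : g' * z = z * g' := by
    have hcu : g * u = u * g := by
      conv_lhs => rw [← hug0]
      simp only [mul_assoc, Invol.inv_mul_self hu, mul_one]
    calc g' * z = x⁻¹ * (g * (x * z * x⁻¹)) * x := by rw [hg']; group
      _ = x⁻¹ * ((x * z * x⁻¹) * g) * x := by rw [hx, hcu]
      _ = z * g' := by rw [hg']; group
  have hg'M : g' ∈ M := D.hC z hz hz1' (mem_centralizer_singleton_iff.2 hg'c)
  have hg'Q : g' ∈ Q := by
    by_contra h
    exact hz1' (D.fpf_of R hg'M (by rw [← hg'o, pow_orderOf_eq_one]) h hz hg'c)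
  have hrp : r = p := by
    have h := orderOf_dvd_of_pow_eq_one (D.pow_p_of_Q hg'Q (hg'o ▸ R.hr.odd_of_ne_two R.hr2))
    rw [hg'o] at h
    exact (Nat.prime_dvd_prime_iff_eq R.hr D.H.hp).1 h
  have hle := D.centralizer_le (fun e he => E_comm hg'Q he) (hg'o.trans hrp)
  have hall : ∀ d : G, d ∈ M → u * d * u ∈ M → u * d * u = d := by
    intro d hd hud
    have hconj : ∀ v : G, v ∈ M → u * v * u ∈ M → ∃ i : ℕ, v * g * v⁻¹ = g ^ i := by
      intro v hv huv
      refine D.D_uniq hu huM R hg hug hgr hg1 (mul_mem (mul_mem hv hg) (inv_mem hv)) ?_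
        (by rw [conj_pow, hgr, mul_one, mul_inv_cancel])
      have e : u * (v * g * v⁻¹) * u = (u * v * u) * (u * g * u) * (u * v * u)⁻¹ := by
        simp only [mul_inv_rev, Invol.inv_eq hu, mul_assoc, Invol.mul_self_cancel hu]
      rw [e]
      exact mul_mem (mul_mem huv hug) (inv_mem huv)
    obtain ⟨i, hi⟩ := hconj d⁻¹ (inv_mem hd) (by
      have : u * d⁻¹ * u = (u * d * u)⁻¹ := by simp only [mul_inv_rev, Invol.inv_eq hu, mul_assoc]
      rw [this]; exact inv_mem hud)
    rw [inv_inv] at hi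
    set d' := x⁻¹ * d * x with hd'
    have hg'e : ∀ e ∈ (E : Subgroup G), d' * e * d'⁻¹ ∈ centralizer ({g'} : Set G) := by
      intro e he
      have hpi : g' ^ i = x⁻¹ * g ^ i * x := by
        have := conj_pow (a := x⁻¹) (b := g) (i := i)
        rwa [inv_inv] at this
      have hcm : Commute e (g' ^ i) :=
        (show Commute e g' from (E_comm hg'Q he).symm).pow_right i
      rw [mem_centralizer_singleton_iff]
      have h2 : d'⁻¹ * g' * d' = g' ^ i := by rw [hpi, ← hi, hd', hg']; group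
      calc d' * e * d'⁻¹ * g' = d' * (e * (d'⁻¹ * g' * d')) * d'⁻¹ := by group
        _ = d' * ((d'⁻¹ * g' * d') * e) * d'⁻¹ := by rw [h2, hcm.eq]
        _ = g' * (d' * e * d'⁻¹) := by group
    have hd'M : d' ∈ M := D.mem_of_conj
      (t := d' * z * d'⁻¹) (by rw [Invol.orderOf_conj]; exact D.H.orderOf_mem hz hz1')
      (hle (hg'e z hz)) (by
        rw [show d'⁻¹ * (d' * z * d'⁻¹) * d' = z by group]; exact le_normalizer hz)
    have he2 := D.H.mul_self_of_mem_pGroup E.2 (mul_mem (D.conj_mem_E hd'M hz) hz)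
    have e3 : d' * z * d'⁻¹ * z = x⁻¹ * (d * (u * d⁻¹ * u)) * x := by
      rw [hd', ← hx]; group
    rw [e3] at he2
    have hsq : (d * (u * d⁻¹ * u)) * (d * (u * d⁻¹ * u)) = 1 := by
      calc (d * (u * d⁻¹ * u)) * (d * (u * d⁻¹ * u))
          = x * ((x⁻¹ * (d * (u * d⁻¹ * u)) * x) * (x⁻¹ * (d * (u * d⁻¹ * u)) * x)) * x⁻¹ := by group
        _ = 1 := by rw [he2]; group
    have hdi : u * d⁻¹ * u = (u * d * u)⁻¹ := by simp only [mul_inv_rev, Invol.inv_eq hu, mul_assoc]
    rw [hdi] at hsq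
    have hm : u * (d * (u * d * u)⁻¹) * u = (u * d * u) * d⁻¹ := by
      simp only [mul_inv_rev, Invol.inv_eq hu, mul_assoc, Invol.mul_self_cancel hu,
        Invol.inv_mul_self hu, mul_one]
    obtain ⟨n, hn⟩ := D.odd_of_mem hu huM (mul_mem hd (inv_mem hud))
      (by rw [hm]; exact mul_mem hud (inv_mem hd))
    have h4 := pow_orderOf_eq_one (d * (u * d * u)⁻¹)
    rw [hn, pow_succ, pow_mul, pow_two, hsq, one_pow, one_mul, mul_inv_eq_one] at h4
    exact h4.symm
  obtain ⟨b, hb, hb1, hbz⟩ : ∃ b ∈ (E : Subgroup G), b ≠ 1 ∧ b ≠ z := by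
    by_contra h
    push Not at h
    have hsub : ((E : Subgroup G) : Set G) ⊆ {1, z} := fun b hb => by
      by_cases h1 : b = 1
      · exact Or.inl h1
      · exact Or.inr (h b hb h1)
    have h6 := Set.ncard_le_ncard hsub (Set.toFinite _)
    rw [← Nat.card_coe_set_eq, Set.ncard_pair (Ne.symm hz1')] at h6
    have := D.hcard
    simp only [SetLike.coe_sort_coe] at *
    omega
  obtain ⟨h, hh, hi, hhe⟩ := D.fiber_surjective.2 u hu huM z hz hz1' b hb hb1
  have := hall h hh (by rw [hi]; exact inv_mem hh)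
  rw [hi] at this
  obtain ⟨n, hn⟩ := D.odd_of_mem hu huM hh (by rw [hi]; exact inv_mem hh)
  have h4 := pow_orderOf_eq_one h
  have h5 : h ^ 2 = 1 := by rw [pow_two]; nth_rewrite 1 [← this]; exact inv_mul_cancel h
  rw [hn, pow_succ, pow_mul, h5, one_pow, one_mul] at h4
  rw [h4, inv_one, one_mul, mul_one] at hhe
  exact hbz hhe.symm

omit hu huM

omit D R in
theorem smul_eq_self_iff {g a : G} :
    g • (QuotientGroup.mk a : G ⧸ M) = QuotientGroup.mk a ↔ a⁻¹ * g * a ∈ M := by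
  rw [MulAction.Quotient.smul_coe, eq_comm, QuotientGroup.eq, smul_eq_mul, mul_assoc]

omit D R in
theorem smul_one_eq_self_iff {g : G} :
    g • (QuotientGroup.mk 1 : G ⧸ M) = QuotientGroup.mk 1 ↔ g ∈ M := by
  rw [smul_eq_self_iff]; simp

/-- Two fixed points of an element of order `r` are swapped by an inverting involution. -/
theorem exists_swap {g : G} (hgo : orderOf g = r) {x y : G ⧸ M} (hxy : x ≠ y)
    (hx : g • x = x) (hy : g • y = y) :
    ∃ v : G, orderOf v = 2 ∧ v • x = y ∧ v • y = x ∧ v * g * v = g⁻¹ := by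
  induction x using QuotientGroup.induction_on with
  | _ a =>
  induction y using QuotientGroup.induction_on with
  | _ b =>
  have hab : a⁻¹ * b ∉ M := fun h => hxy (QuotientGroup.eq.2 h)
  obtain ⟨u, hu, huM, hub⟩ := D.fiber_surjective.1 _ hab
  rw [Invol.inv_eq hu] at hub
  rw [smul_eq_self_iff] at hx hy
  set g' := a⁻¹ * g * a with hg'
  have hug : u * g' * u ∈ M := by
    have h : u * g' * u = (u * (a⁻¹ * b)) * (b⁻¹ * g * b) * (u * (a⁻¹ * b))⁻¹ := by
      rw [hg', mul_inv_rev, Invol.inv_eq hu]; group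
    rw [h]
    exact mul_mem (mul_mem hub hy) (inv_mem hub)
  have hinv := D.inverts hu huM R hx hug (by
    have := Invol.orderOf_conj a⁻¹ g
    rwa [inv_inv, hgo] at this)
  refine ⟨a * u * a⁻¹, by rw [Invol.orderOf_conj]; exact hu, ?_, ?_, ?_⟩
  · rw [MulAction.Quotient.smul_coe, QuotientGroup.eq, smul_eq_mul]
    have : (a * u * a⁻¹ * a)⁻¹ * b = u * (a⁻¹ * b) := by
      rw [inv_mul_cancel_right, mul_inv_rev, Invol.inv_eq hu]; group
    rw [this]; exact hub
  · rw [MulAction.Quotient.smul_coe, QuotientGroup.eq, smul_eq_mul]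
    have : (a * u * a⁻¹ * b)⁻¹ * a = (u * (a⁻¹ * b))⁻¹ := by group
    rw [this]; exact inv_mem hub
  · calc a * u * a⁻¹ * g * (a * u * a⁻¹) = a * (u * g' * u) * a⁻¹ := by rw [hg']; group
      _ = g⁻¹ := by rw [hinv, hg']; group

include hu huM

/-- The element of order `r` of `M ∩ uMu` fixes exactly two points. -/
theorem fix_two {g : G} (hg : g ∈ M) (hug : u * g * u ∈ M) (hgo : orderOf g = r) {x : G ⧸ M}
    (hx : g • x = x) : x = QuotientGroup.mk 1 ∨ x = QuotientGroup.mk u := by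
  classical
  haveI := Fact.mk R.hr
  by_contra hcon
  push Not at hcon
  set F : Set (G ⧸ M) := {y | g • y = y}
  set x0 : G ⧸ M := QuotientGroup.mk 1
  set x1 : G ⧸ M := QuotientGroup.mk u
  have hx0 : x0 ∈ F := smul_one_eq_self_iff.2 hg
  have hx1 : x1 ∈ F := by
    show g • x1 = x1
    rw [smul_eq_self_iff, Invol.inv_eq hu]; exact hug
  have h01 : x0 ≠ x1 := fun h => huM (by simpa using QuotientGroup.eq.1 h)
  set K := centralizer ({g} : Set G) with hK
  have hKF : ∀ k ∈ K, ∀ y ∈ F, k • y ∈ F := fun k hk y hy => by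
    show g • k • y = k • y
    rw [← mul_smul, ← (mem_centralizer_singleton_iff.1 hk), mul_smul, hy]
  have hg1 : g ≠ 1 := fun h => by rw [h, orderOf_one] at hgo; exact R.hr.ne_one hgo.symm
  have hg2 : g⁻¹ ≠ g := fun h => by
    have : g ^ 2 = 1 := by rw [pow_two]; nth_rewrite 1 [← h]; exact inv_mul_cancel g
    have := orderOf_dvd_of_pow_eq_one this
    rw [hgo, Nat.prime_dvd_prime_iff_eq R.hr Nat.prime_two] at this
    exact R.hr2 this
  have htrans : ∀ y ∈ F, ∃ k : K, k • x0 = y := by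
    intro y hy
    rcases eq_or_ne y x0 with h | h
    · exact ⟨1, by rw [one_smul, h]⟩
    obtain ⟨w, hwF, hw0, hwy⟩ : ∃ w ∈ F, x0 ≠ w ∧ w ≠ y := by
      rcases eq_or_ne x1 y with h' | h'
      · exact ⟨x, hx, Ne.symm hcon.1, h' ▸ hcon.2⟩
      · exact ⟨x1, hx1, h01, h'⟩
    obtain ⟨v1, hv1, ha, -, hi1⟩ := D.exists_swap R hgo hw0 hx0 hwF
    obtain ⟨v2, hv2, hb, -, hi2⟩ := D.exists_swap R hgo hwy hwF hy
    refine ⟨⟨v2 * v1, mem_centralizer_singleton_iff.2 ?_⟩, by
      show (v2 * v1) • x0 = y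
      rw [mul_smul, ha, hb]⟩
    have : (v2 * v1) * g * (v2 * v1)⁻¹ = g := by
      rw [mul_inv_rev, Invol.inv_eq hv1, Invol.inv_eq hv2]
      calc v2 * v1 * g * (v1 * v2) = v2 * (v1 * g * v1) * v2 := by group
        _ = (v2 * g * v2)⁻¹ := by
            rw [hi1, mul_inv_rev, mul_inv_rev, Invol.inv_eq hv2, mul_assoc]
        _ = g := by rw [hi2, inv_inv]
    exact (mul_inv_eq_iff_eq_mul.1 this)
  have horb : MulAction.orbit K x0 = F := by
    ext y
    exact ⟨fun ⟨k, hk⟩ => hk ▸ hKF k k.2 x0 hx0, fun hy => htrans y hy⟩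
  have hoddK : Odd (Nat.card K) := by
    rw [← Nat.not_even_iff_odd]
    intro he
    obtain ⟨⟨t, htK⟩, ht⟩ := Invol.exists_orderOf_two he
    rw [Subgroup.orderOf_mk] at ht
    have htg := mem_centralizer_singleton_iff.1 htK
    by_cases htM : t ∈ M
    · exact Invol.inv_ne_one ht (D.fpf_of R hg (by rw [← hgo, pow_orderOf_eq_one])
        (D.notQ hu huM R hg1 hug) (D.invol_mem ht htM) htg.symm)
    · have h1 : t * g * t = g := by rw [htg, mul_assoc, Invol.inv_mul_self ht, mul_one]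
      have h2 := D.inverts ht htM R hg (by rw [h1]; exact hg) hgo
      exact hg2 (h2.symm.trans h1)
  have hFodd : Odd F.ncard := by
    rw [← horb, ← MulAction.index_stabilizer]
    exact hoddK.of_dvd_nat (Subgroup.index_dvd_card _)
  -- `u` has no fixed point on `F`
  have hgi : u * g * u = g⁻¹ := D.inverts hu huM R hg hug hgo
  have huF : ∀ y ∈ F, u • y ∈ F := by
    intro y hy
    show g • u • y = u • y
    have e : g * u = u * g⁻¹ := by rw [← hgi]; simp only [mul_assoc, Invol.mul_self_cancel hu]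
    rw [← mul_smul, e, mul_smul]
    congr 1
    rw [inv_smul_eq_iff]; exact hy.symm
  let σ : Equiv.Perm F :=
    { toFun := fun y => ⟨u • y.1, huF _ y.2⟩
      invFun := fun y => ⟨u • y.1, huF _ y.2⟩
      left_inv := fun y => Subtype.ext (by
        show u • u • y.1 = y.1
        rw [← mul_smul, Invol.inv_mul_self hu, one_smul])
      right_inv := fun y => Subtype.ext (by
        show u • u • y.1 = y.1
        rw [← mul_smul, Invol.inv_mul_self hu, one_smul]) }
  letI := Fintype.ofFinite F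
  haveI : Fact (Nat.Prime 2) := ⟨Nat.prime_two⟩
  obtain ⟨⟨y, hyF⟩, hy⟩ := Equiv.Perm.exists_fixed_point_of_prime (p := 2) (n := 1) (σ := σ)
    (by
      rw [← Nat.card_eq_fintype_card, Nat.card_coe_set_eq, ← even_iff_two_dvd, Nat.not_even_iff_odd]
      exact hFodd)
    (Equiv.ext fun y => Subtype.ext (by
      show u • u • y.1 = y.1
      rw [← mul_smul, Invol.inv_mul_self hu, one_smul]))
  have hy2 : u • y = y := congrArg Subtype.val hy
  induction y using QuotientGroup.induction_on with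
  | _ a =>
    have hy1 : a⁻¹ * g * a ∈ M := smul_eq_self_iff.1 hyF
    rw [smul_eq_self_iff] at hy2
    have hu' : a⁻¹ * u * a ∈ (E : Subgroup G) := D.invol_mem
      (by have := Invol.orderOf_conj a⁻¹ u; rwa [inv_inv, hu] at this) hy2
    have h3 := D.H.mul_self_of_mem_pGroup E.2 (mul_mem hu' (D.conj_mem_E hy1 hu'))
    have e3 : a⁻¹ * u * a * (a⁻¹ * g * a * (a⁻¹ * u * a) * (a⁻¹ * g * a)⁻¹) =
        a⁻¹ * (g⁻¹ * g⁻¹) * a := by
      calc _ = a⁻¹ * ((u * g * u) * g⁻¹) * a := by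
            rw [mul_inv_rev, mul_inv_rev, inv_inv]
            group
        _ = _ := by rw [hgi]
    rw [e3] at h3
    have h4 : g⁻¹ * g⁻¹ * (g⁻¹ * g⁻¹) = 1 := by
      calc g⁻¹ * g⁻¹ * (g⁻¹ * g⁻¹)
          = a * ((a⁻¹ * (g⁻¹ * g⁻¹) * a) * (a⁻¹ * (g⁻¹ * g⁻¹) * a)) * a⁻¹ := by group
        _ = 1 := by rw [h3]; group
    have h5 : g ^ 4 = 1 := by rw [← inv_inj, inv_one, ← inv_pow, ← h4]; group
    have h6 := orderOf_dvd_of_pow_eq_one h5
    rw [hgo] at h6
    exact R.hr2 ((Nat.prime_dvd_prime_iff_eq R.hr Nat.prime_two).1 (R.hr.dvd_of_dvd_pow (n := 2) h6))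

/-- Only the identity of `C(E)` commutes with `g`. -/
theorem Q_comm_eq_one {g y : G} (hg : g ∈ M) (hug : u * g * u ∈ M) (hgo : orderOf g = r)
    (hy : y ∈ Q) (hc : g * y = y * g) : y = 1 := by
  set x1 : G ⧸ M := QuotientGroup.mk u
  have hx1 : g • x1 = x1 := by rw [smul_eq_self_iff, Invol.inv_eq hu]; exact hug
  have hyx : g • (y • x1) = y • x1 := by rw [← mul_smul, hc, mul_smul, hx1]
  rcases D.fix_two hu huM R hg hug hgo hyx with h | h
  · exfalso
    have h2 : y⁻¹ • (QuotientGroup.mk 1 : G ⧸ M) = QuotientGroup.mk 1 :=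
      smul_one_eq_self_iff.2 (inv_mem (Q_le hy))
    have h3 : x1 = y⁻¹ • (QuotientGroup.mk 1 : G ⧸ M) := eq_inv_smul_iff.2 h
    rw [h2] at h3
    exact huM (by simpa using inv_mem (QuotientGroup.eq.1 h3))
  · rw [smul_eq_self_iff, Invol.inv_eq hu] at h
    exact D.Q_inter_eq_one hu huM hy h

end Ctx

end Cfsg.Agent.H73.TwoP
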