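import Cfsg.Agent.H73.TwoP.Kill
import Cfsg.Agent.H73.TwoP.Key
import Cfsg.Agent.Signalizer.Functor

/-!
# Sylow 2-subgroups of rank at least three are impossible
-/

set_option autoImplicit false

namespace Cfsg.Agent.H73.TwoP

open Subgroup

variable {G : Type*} [Group G] [Finite G] {p : ℕ}

theorem Hyp.E_le_centralizer (H : Hyp G p) {E : Sylow 2 G} {a : G} (ha : a ∈ (E : Subgroup G)) :
    (E : Subgroup G) ≤ centralizer ({a} : Set G) := fun _ hb =>
  mem_centralizer_singleton_iff.2 (H.commute_of_mem_pGroup E.2 hb ha).eq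

theorem not_two_dvd_core (C : Subgroup G) : ¬ 2 ∣ Nat.card (core C) := fun h =>
  (Nat.not_even_iff_odd.2 (odd_card_core C)) (even_iff_two_dvd.2 h)

/-- Rank at least three is impossible. -/
theorem Hyp.no_rank_three [IsSimpleGroup G] (H : Hyp G p) (hns : ¬ (Nat.card G).Prime)
    (hex : ∃ g : G, orderOf g = 2 * p) (E : Sylow 2 G) (h8 : 8 ≤ Nat.card (E : Subgroup G)) :
    False := by
  classical
  haveI : Fact (Nat.Prime 2) := ⟨Nat.prime_two⟩
  haveI := Fact.mk H.hp
  set S : Subgroup G := (E : Subgroup G) with hS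
  have hES : Cfsg.IsElementaryAbelian 2 S :=
    ⟨⟨⟨fun a b => Subtype.ext (H.commute_of_mem_pGroup E.2 a.2 b.2).eq⟩⟩,
      fun a ha => by rw [pow_two]; exact H.mul_self_of_mem_pGroup E.2 ha⟩
  let θ : G → Subgroup G := fun a => core (centralizer ({a} : Set G))
  have hθp : ∀ a ∈ S, a ≠ 1 → IsPGroup p (θ a) := fun a ha ha1 =>
    H.isPGroup_of_le_centralizer (H.orderOf_mem ha ha1) (core_le _) (odd_card_core _)
  have hsolC : ∀ a ∈ S, a ≠ 1 → Group.IsSolvable (centralizer ({a} : Set G)) := fun a ha ha1 =>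
    H.isSolvable_centralizer (Or.inl (H.orderOf_mem ha ha1))
  have hθ : Cfsg.IsSolvableSignalizerFunctor 2 S θ := by
    refine ⟨⟨fun a _ _ => core_le _, fun a _ _ => not_two_dvd_core _, fun a ha _ b hb x hx => ?_,
      fun a ha ha1 b hb hb1 => ?_⟩, fun a ha ha1 => ?_⟩
    · exact (mem_normalizer_iff.1 (le_normalizer_core _ (H.E_le_centralizer ha hb)) x).1 hx
    · haveI := hsolC b hb hb1
      refine le_core (S := E) (H.E_le_centralizer hb) inf_le_right ?_ ?_
      · exact (odd_card_core _).of_dvd_nat (card_dvd_of_le inf_le_left)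
      · intro e he
        rw [mem_normalizer_iff]
        have h1 := mem_normalizer_iff.1 (le_normalizer_core _ (H.E_le_centralizer ha he))
        have h2 := mem_normalizer_iff.1 (le_normalizer (H.E_le_centralizer hb he))
        intro x
        simp only [mem_inf]
        exact ⟨fun h => ⟨(h1 x).1 h.1, (h2 x).1 h.2⟩, fun h => ⟨(h1 x).2 h.1, (h2 x).2 h.2⟩⟩
    · haveI := (hθp a ha ha1).isNilpotent
      infer_instance
  obtain ⟨P, hP, hPθ⟩ := Signalizer.exists_member_of_pGroup (p := 2) hES (by simpa using h8) hθ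
    (q := p) hθp
  have hPA : S ≤ normalizer (P : Set G) := Signalizer.family_le_normalizer hP
  haveI : IsMulCommutative S := hES.1
  have hnc : ¬ IsCyclic S := by
    intro hc
    obtain ⟨g, hg⟩ := hc.exists_ofOrder_eq_natCard
    have : g ^ 2 = 1 := Subtype.ext (hES.2 g g.2)
    have h2 := Nat.le_of_dvd two_pos (orderOf_dvd_of_pow_eq_one this)
    omega
  have hcop : ∀ X : Subgroup G, X ≤ P → (Nat.card S).Coprime (Nat.card X) := by
    intro X hX
    obtain ⟨k, hk⟩ := E.2.exists_card_eq
    rw [hk]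
    exact (Nat.Coprime.pow_left k ((Nat.prime_two.coprime_iff_not_dvd).2 fun h =>
      hP.2.1 (h.trans (card_dvd_of_le hX))))
  have hPp : IsPGroup p P := by
    refine IsPGroup.of_card (n := (Nat.card P).primeFactorsList.length)
      (Nat.eq_prime_pow_of_unique_prime_dvd Nat.card_pos.ne' fun {s} hs hsd => ?_)
    by_contra hsp
    haveI := Fact.mk hs
    obtain ⟨T, hT⟩ := Coprime.exists_invariant_sylow s hPA (hcop P le_rfl)
      (Or.inl (Group.isSolvable_of_comm fun a b => hES.1.is_comm.comm a b))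
    set Tm := (T : Subgroup P).map P.subtype
    have hTP : Tm ≤ P := map_subtype_le _
    have hTbot : Tm = ⊥ := by
      rw [eq_bot_iff, ← Coprime.iSup_centralizer_eq hnc hT (hcop Tm hTP)]
      refine iSup₂_le fun a ha => ?_
      rintro x ⟨hx, hxa⟩
      have hxθ : x ∈ θ a := hPθ a ha.1 ha.2 ▸ ⟨hTP hx, hxa⟩
      obtain ⟨i, hi⟩ := (hθp a ha.1 ha.2) ⟨x, hxθ⟩
      obtain ⟨j, hj⟩ := (T.2.map P.subtype) ⟨x, hx⟩
      have h1 := orderOf_dvd_of_pow_eq_one (show x ^ p ^ i = 1 by simpa [Subtype.ext_iff] using hi)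
      have h2 := orderOf_dvd_of_pow_eq_one (show x ^ s ^ j = 1 by simpa [Subtype.ext_iff] using hj)
      rw [mem_bot, ← orderOf_eq_one_iff]
      exact Nat.eq_one_of_dvd_coprimes (((Nat.coprime_primes H.hp hs).2 (Ne.symm hsp)).pow i j) h1 h2
    exact T.ne_bot_of_dvd_card hsd ((map_eq_bot_iff_of_injective _ P.subtype_injective).1 hTbot)
  -- `P` is generated by the `θ a`
  have hPgen : P = ⨆ a ∈ {a : G | a ∈ S ∧ a ≠ 1}, θ a := by
    conv_lhs => rw [← Coprime.iSup_centralizer_eq hnc hPA (hcop P le_rfl)]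
    exact iSup_congr fun a => iSup_congr fun ha => hPθ a ha.1 ha.2
  have hθle : ∀ a ∈ S, a ≠ 1 → θ a ≤ P := fun a ha ha1 => hPθ a ha ha1 ▸ inf_le_left
  have hNP : normalizer (S : Set G) ≤ normalizer (P : Set G) := by
    have key : ∀ g ∈ normalizer (S : Set G), ∀ x ∈ P, g * x * g⁻¹ ∈ P := by
      intro g hg x hx
      have hle : P ≤ P.comap (MulAut.conj g).toMonoidHom := by
        conv_lhs => rw [hPgen]
        refine iSup₂_le fun a ha => ?_
        rw [← map_le_iff_le_comap]
        set b := g * a * g⁻¹ with hb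
        have hbS : b ∈ S := (mem_normalizer_iff.1 hg a).1 ha.1
        have hb1 : b ≠ 1 := fun h => ha.2 (conj_eq_one_iff.1 h)
        haveI := hsolC b hbS hb1
        refine le_trans ?_ (hθle b hbS hb1)
        refine le_core (S := E) (H.E_le_centralizer hbS) ?_ ?_ ?_
        · rintro _ ⟨y, hy, rfl⟩
          have h : y * a = a * y := mem_centralizer_singleton_iff.1 (core_le _ hy)
          refine mem_centralizer_singleton_iff.2 ?_
          show g * y * g⁻¹ * b = b * (g * y * g⁻¹)
          calc g * y * g⁻¹ * b = g * (y * a) * g⁻¹ := by rw [hb]; group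
            _ = b * (g * y * g⁻¹) := by rw [h, hb]; group
        · rw [card_map_of_injective (MulAut.conj g).injective]; exact odd_card_core _
        · intro e he
          rw [mem_normalizer_iff]
          intro y
          have he' : g⁻¹ * e * g ∈ S := by
            have := (mem_normalizer_iff.1 (inv_mem hg) e).1 he
            rwa [inv_inv] at this
          have h1 := mem_normalizer_iff.1 (le_normalizer_core _ (H.E_le_centralizer ha.1 he')) (g⁻¹ * y * g)
          simp only [Invol.mem_map_conj]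
          refine h1.trans (iff_of_eq ?_)
          congr 1
          group
      exact hle hx
    intro g hg
    rw [mem_normalizer_iff]
    intro x
    refine ⟨key g hg x, fun h => ?_⟩
    have := key g⁻¹ (inv_mem hg) _ h
    simpa [mul_assoc] using this
  set M := P ⊔ normalizer (S : Set G) with hM
  have hCM : ∀ t ∈ S, t ≠ 1 → centralizer ({t} : Set G) ≤ M := by
    intro t ht ht1
    haveI := hsolC t ht ht1
    refine (le_core_sup (E.subtype (H.E_le_centralizer ht))
      ⟨⟨fun a b => Subtype.ext (Subtype.ext (H.commute_of_mem_pGroup E.2 a.2 b.2).eq)⟩⟩).trans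
      (sup_le_sup (hθle t ht ht1) ?_)
    rw [Sylow.coe_subtype, map_subgroupOf_eq_of_le (H.E_le_centralizer ht)]
    exact inf_le_right
  -- it suffices that `P ≤ N(S)`
  suffices hPN : P ≤ normalizer (S : Set G) by
    have D : Ctx E p := ⟨H, hns, le_trans (by norm_num) h8,
      fun t ht ht1 => (hCM t ht ht1).trans (sup_le hPN le_rfl)⟩
    exact D.contradiction hex
  by_cases hMtop : M = ⊤
  · have hn : P.Normal := normalizer_eq_top_iff.1
      (top_le_iff.1 (hMtop ▸ sup_le le_normalizer hNP))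
    rcases hn.eq_bot_or_eq_top with h | h
    · rw [h]; exact bot_le
    · exfalso
      obtain ⟨k, hk⟩ := E.2.exists_card_eq
      refine hP.2.1 (dvd_trans ?_ (card_dvd_of_le (show S ≤ P from h ▸ le_top)))
      rw [hk]
      exact dvd_pow_self 2 (by rintro rfl; simp_all)
  have D : SESetting E M := ⟨le_sup_right, hCM, hMtop⟩
  obtain ⟨c, r, hr, hr2, hc, hcN, hfpf, -⟩ := H.singer E (le_trans (by norm_num) h8)
    fun x hx y hy hx1 hy1 => D.transitive H hx hy hx1 hy1
  have hcent := H.key hPp E.2 hPA hr hr2 hc (hNP hcN) hcN hfpf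
  exact (le_centralizer_iff.1 hcent).trans (centralizer_le_normalizer _)

end Cfsg.Agent.H73.TwoP
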