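import Cfsg.Agent.H73.TwoP.Points
import Cfsg.Agent.SmallGroups.DegreeThree
import Cfsg.Agent.Signalizer.Functor

/-!
# `C(E)` is regular outside the base point, and the transfer identity
-/

set_option autoImplicit false

namespace Cfsg.Agent.H73.TwoP

open Subgroup
open scoped Pointwise

variable {G : Type*} [Group G] [Finite G] {p : ℕ}

namespace Ctx

variable {E : Sylow 2 G} [IsSimpleGroup G] (D : Ctx E p)
include D

local notation "M" => normalizer ((E : Subgroup G) : Set G)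
local notation "Q" => centralizer ((E : Subgroup G) : Set G)

variable {c : G} {r : ℕ} (R : Data E p c r)
include R

/-- An involution attached to a point other than the base point. -/
theorem exists_invol_of_ne {x : G ⧸ M} (hx : x ≠ QuotientGroup.mk 1) :
    ∃ u : G, orderOf u = 2 ∧ u ∉ M ∧ QuotientGroup.mk u = x := by
  induction x using QuotientGroup.induction_on with
  | _ a =>
    have ha : a ∉ M := fun h => hx (QuotientGroup.eq.2 (by simpa using inv_mem h))
    obtain ⟨u, h1, h2, h3⟩ := D.fiber_surjective.1 a ha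
    exact ⟨u, h1, h2, QuotientGroup.eq.2 h3⟩

/-- A `p`-element centralizing an involution of `E`, if any. -/
theorem exists_pElem (hex : ∃ g : G, orderOf g = 2 * p) :
    ∃ z ∈ (E : Subgroup G), z ≠ 1 ∧ ∃ y ∈ M, orderOf y = p ∧ y * z = z * y := by
  obtain ⟨g, hg⟩ := hex
  have h2 : orderOf (g ^ p) = 2 := by
    rw [orderOf_pow_of_dvd D.H.hp.ne_zero (hg ▸ dvd_mul_left p 2), hg,
      Nat.mul_div_cancel _ D.H.hp.pos]
  have hp' : orderOf (g ^ 2) = p := by
    rw [orderOf_pow_of_dvd two_ne_zero (hg ▸ dvd_mul_right 2 p), hg,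
      Nat.mul_div_cancel_left _ two_pos]
  obtain ⟨z, hz, hz1⟩ := D.exists_ne_one
  obtain ⟨a, ha⟩ := isConj_iff.1 (D.isConj_invol h2 hz hz1)
  have hcomm : a⁻¹ * g ^ 2 * a * z = z * (a⁻¹ * g ^ 2 * a) := by
    calc a⁻¹ * g ^ 2 * a * z = a⁻¹ * (g ^ 2 * (a * z * a⁻¹)) * a := by group
      _ = a⁻¹ * ((a * z * a⁻¹) * g ^ 2) * a := by
          rw [ha, ← pow_add, ← pow_add, add_comm]
      _ = z * (a⁻¹ * g ^ 2 * a) := by group
  refine ⟨z, hz, hz1, a⁻¹ * g ^ 2 * a, D.hC z hz hz1 (mem_centralizer_singleton_iff.2 hcomm), ?_,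
    hcomm⟩
  have := Invol.orderOf_conj a⁻¹ (g ^ 2)
  rwa [inv_inv, hp'] at this

theorem r_ne_p (hex : ∃ g : G, orderOf g = 2 * p) : r ≠ p := by
  intro hrp
  haveI := Fact.mk D.H.hp
  obtain ⟨z, hz, hz1, y, hyM, hy, hyz⟩ := D.exists_pElem R hex
  have hyQ : y ∈ Q := by
    by_contra h
    exact hz1 (D.fpf_of R hyM (by rw [hrp, ← hy, pow_orderOf_eq_one]) h hz hyz)
  have hne : (QuotientGroup.mk 1 : G ⧸ M) ≠ QuotientGroup.mk 1 ∨ True := Or.inr trivial
  obtain ⟨a, ha⟩ : ∃ a : G, a ∉ M := by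
    by_contra h
    push Not at h
    exact D.ne_top (eq_top_iff.2 fun a _ => h a)
  obtain ⟨u, hu, huM, -⟩ := D.fiber_surjective.1 a ha
  obtain ⟨g, hg, hug, hgo⟩ := D.exists_D_elem hu huM R
  have h1 := card_inf_centralizer_modEq (q := p) (X := Q) (g := g)
    (by
      rw [mem_normalizer_iff]
      intro q
      refine ⟨fun h => D.conj_mem_Q hg h, fun h => ?_⟩
      have := D.conj_mem_Q (inv_mem hg) h
      simpa [mul_assoc] using this)
    (fun x _ => by rw [← hrp, ← hgo, pow_orderOf_eq_one, one_mul, mul_one])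
  have hbot : Q ⊓ centralizer ({g} : Set G) = ⊥ := by
    rw [eq_bot_iff]
    rintro q ⟨hq, hqg⟩
    exact mem_bot.2 (D.Q_comm_eq_one hu huM R hg hug hgo hq (mem_centralizer_singleton_iff.1 hqg).symm)
  rw [hbot, card_bot] at h1
  have h2 : p ∣ Nat.card Q := hy ▸ Subgroup.orderOf_dvd_natCard _ hyQ
  have h3 : Nat.card Q ≡ 0 [MOD p] := Nat.modEq_zero_iff_dvd.2 h2
  exact D.H.hp.one_lt.ne' (Nat.dvd_one.1 (Nat.modEq_zero_iff_dvd.1 (h1.trans h3)))

/-- `C(E)` has no elements of order `r`. -/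
theorem not_dvd_card_Q (hrp : r ≠ p) : ¬ r ∣ Nat.card Q := by
  intro h
  haveI := Fact.mk R.hr
  obtain ⟨⟨k, hk⟩, hko⟩ := exists_prime_orderOf_dvd_card' r h
  rw [Subgroup.orderOf_mk] at hko
  have h2 := orderOf_dvd_of_pow_eq_one (D.pow_p_of_Q hk (hko ▸ R.hr.odd_of_ne_two R.hr2))
  rw [hko] at h2
  exact hrp ((Nat.prime_dvd_prime_iff_eq R.hr D.H.hp).1 h2)

/-- `C(E)` is transitive on the points other than the base point. -/
theorem Q_transitive (hrp : r ≠ p) {u : G} (hu : orderOf u = 2) (huM : u ∉ M) {x : G ⧸ M}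
    (hx : x ≠ QuotientGroup.mk 1) : ∃ q ∈ Q, q • (QuotientGroup.mk u : G ⧸ M) = x := by
  classical
  haveI := Fact.mk R.hr
  obtain ⟨u', hu', hu'M, hux⟩ := D.exists_invol_of_ne R hx
  obtain ⟨g, hg, hug, hgo⟩ := D.exists_D_elem hu huM R
  obtain ⟨g', hg', hug', hgo'⟩ := D.exists_D_elem hu' hu'M R
  have hg1 : g ≠ 1 := fun h => by rw [h, orderOf_one] at hgo; exact R.hr.ne_one hgo.symm
  have hgr : g ^ r = 1 := by rw [← hgo, pow_orderOf_eq_one]
  have hgr' : g' ^ r = 1 := by rw [← hgo', pow_orderOf_eq_one]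
  have hgQ := D.notQ hu huM R hg1 hug
  have hnQ : M ≤ normalizer (Q : Set G) := by
    intro a ha
    rw [mem_normalizer_iff]
    intro q
    refine ⟨fun h => D.conj_mem_Q ha h, fun h => ?_⟩
    have := D.conj_mem_Q (inv_mem ha) h
    simpa [mul_assoc] using this
  set L := Q ⊔ zpowers g
  have hgnQ : zpowers g ≤ normalizer (Q : Set G) := zpowers_le.2 (hnQ hg)
  have hLmem : ∀ {l : G}, l ∈ L → ∃ q ∈ Q, ∃ b ∈ zpowers g, q * b = l := fun {l} hl => by
    have h := (Subgroup.coe_mul_of_right_le_normalizer_left Q (zpowers g) hgnQ)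
    have hl' : l ∈ (Q : Set G) * (zpowers g : Set G) := by rw [← h]; exact hl
    exact Set.mem_mul.1 hl'
  -- both elements lie in `L`
  have hgL : g' ∈ L := by
    obtain ⟨k, hk⟩ := R.uniq g hg (by rw [hgr]; exact one_mem _)
    obtain ⟨l, hl⟩ := R.uniq g' hg' (by rw [hgr']; exact one_mem _)
    have hrk : ¬ r ∣ k := by
      rintro ⟨i, rfl⟩
      rw [pow_mul, ← R.hc, pow_orderOf_eq_one, one_pow, inv_one, one_mul] at hk
      exact hgQ hk
    obtain ⟨m, -, hm⟩ := Nat.exists_mul_mod_eq_one_of_coprime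
      ((R.hr.coprime_iff_not_dvd.2 hrk).symm) R.hr.one_lt
    have hck : c ^ k ∈ L := by
      have h1 : c ^ k = g * ((c ^ k)⁻¹ * g)⁻¹ := by group
      rw [h1]
      exact mul_mem (mem_sup_right (mem_zpowers g)) (mem_sup_left (inv_mem hk))
    have hcL : c ∈ L := by
      have h1 := pow_mem hck m
      rwa [← pow_mul, ← Nat.mod_add_div (k * m) r, hm, pow_add, pow_mul, ← R.hc, pow_orderOf_eq_one,
        one_pow, mul_one, pow_one] at h1
    have h2 := mul_mem (pow_mem hcL l) (mem_sup_left (T := zpowers g) hl)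
    rwa [mul_inv_cancel_left] at h2
  have hcardL : ∀ k : ℕ, r ^ k ∣ Nat.card L → k ≤ 1 := by
    intro k hk
    by_contra hk2
    have h1 : r ^ 2 ∣ Nat.card L := (pow_dvd_pow r (by omega)).trans hk
    have h2 : Nat.card L ∣ Nat.card Q * r := by
      rw [← hgo, ← Nat.card_zpowers]
      exact Signalizer.card_sup_dvd hgnQ
    have h3 : r * r ∣ Nat.card Q * r := by rw [← pow_two]; exact h1.trans h2
    exact D.not_dvd_card_Q R hrp (Nat.dvd_of_mul_dvd_mul_right R.hr.pos h3)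
  have hsyl : ∀ a : G, a ∈ L → orderOf a = r → ∃ P : Sylow r L,
      (P : Subgroup L).map L.subtype = zpowers a := by
    intro a ha hao
    have hP : IsPGroup r (zpowers (⟨a, ha⟩ : L)) := IsPGroup.of_card (n := 1)
      (by rw [Nat.card_zpowers, Subgroup.orderOf_mk, pow_one, hao])
    obtain ⟨P, hP'⟩ := hP.exists_le_sylow
    refine ⟨P, ?_⟩
    have heq : zpowers (⟨a, ha⟩ : L) = P := by
      refine eq_of_le_of_card_ge hP' ?_
      obtain ⟨k, hk⟩ := P.2.exists_card_eq
      have h1 := hcardL k (hk ▸ Subgroup.card_subgroup_dvd_card _)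
      rw [hk, Nat.card_zpowers, Subgroup.orderOf_mk, hao]
      calc r ^ k ≤ r ^ 1 := Nat.pow_le_pow_right R.hr.pos h1
        _ = r := pow_one r
    rw [← heq, MonoidHom.map_zpowers]; rfl
  obtain ⟨P, hP⟩ := hsyl g (mem_sup_right (mem_zpowers g)) hgo
  obtain ⟨P', hP'⟩ := hsyl g' hgL hgo'
  obtain ⟨l, hl⟩ := MulAction.exists_smul_eq L P P'
  obtain ⟨q, hq, b, hb, hqb⟩ := hLmem l.2
  have hconj : (l : G) * g * (l : G)⁻¹ ∈ zpowers g' := by
    have h0 : g ∈ (P : Subgroup L).map L.subtype := hP ▸ mem_zpowers g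
    obtain ⟨g0, hg0, hg0e⟩ := h0
    rw [← hP', ← hl]
    refine ⟨l * g0 * l⁻¹, Subgroup.smul_mem_pointwise_smul _ (MulAut.conj l) _ hg0, ?_⟩
    rw [map_mul, map_mul, map_inv]
    change (l : G) * (g0 : G) * (l : G)⁻¹ = _
    rw [show (g0 : G) = g from hg0e]
  set x1 : G ⧸ M := QuotientGroup.mk u with hx1d
  have hbx1 : b • x1 = x1 := by
    have hgx : g ∈ MulAction.stabilizer G x1 := by
      rw [MulAction.mem_stabilizer_iff, hx1d, smul_eq_self_iff, Invol.inv_eq hu]; exact hug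
    exact (zpowers_le.2 hgx) hb
  have hg'x : g' • ((l : G) • x1) = (l : G) • x1 := by
    have hsub : zpowers g' ≤ zpowers ((l : G) * g * (l : G)⁻¹) := by
      refine (eq_of_le_of_card_ge (zpowers_le.2 hconj) ?_).ge
      rw [Nat.card_zpowers, Nat.card_zpowers, Invol.orderOf_conj, hgo, hgo']
    have hst : (l : G) * g * (l : G)⁻¹ ∈ MulAction.stabilizer G ((l : G) • x1) := by
      rw [MulAction.mem_stabilizer_iff, ← mul_smul, inv_mul_cancel_right, mul_smul, hx1d]
      congr 1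
      rw [smul_eq_self_iff, Invol.inv_eq hu]; exact hug
    exact (zpowers_le.2 hst) (hsub (mem_zpowers g'))
  have hlM : (l : G) ∈ M := by
    rw [← hqb]; exact mul_mem (Q_le hq) ((zpowers_le.2 hg) hb)
  rcases D.fix_two hu' hu'M R hg' hug' hgo' hg'x with h | h
  · exfalso
    have h2 : (l : G)⁻¹ • (QuotientGroup.mk 1 : G ⧸ M) = QuotientGroup.mk 1 :=
      smul_one_eq_self_iff.2 (inv_mem hlM)
    have h3 : x1 = (l : G)⁻¹ • (QuotientGroup.mk 1 : G ⧸ M) := eq_inv_smul_iff.2 h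
    rw [h2] at h3
    exact huM (by simpa using inv_mem (QuotientGroup.eq.1 h3))
  · refine ⟨q, hq, ?_⟩
    rw [← hqb, mul_smul, hbx1, hux] at h
    exact h

omit R in
/-- `C(E)` acts semiregularly on the other points. -/
theorem Q_semiregular {u : G} (hu : orderOf u = 2) (huM : u ∉ M) {q q' : G} (hq : q ∈ Q)
    (hq' : q' ∈ Q) (h : q • (QuotientGroup.mk u : G ⧸ M) = q' • QuotientGroup.mk u) : q = q' := by
  have h2 : (q'⁻¹ * q) • (QuotientGroup.mk u : G ⧸ M) = QuotientGroup.mk u := by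
    rw [mul_smul, h, inv_smul_smul]
  rw [smul_eq_self_iff, Invol.inv_eq hu] at h2
  exact (inv_mul_eq_one.1 (D.Q_inter_eq_one hu huM (mul_mem (inv_mem hq') hq) h2)).symm

omit R in
theorem smul_mk_ne {u m : G} (huM : u ∉ M) (hm : m ∈ M) :
    m • (QuotientGroup.mk u : G ⧸ M) ≠ QuotientGroup.mk 1 := by
  intro h
  rw [MulAction.Quotient.smul_coe, QuotientGroup.eq, smul_eq_mul, mul_one] at h
  exact huM (by simpa using mul_mem (inv_mem hm) (inv_mem h))

/-- `p` divides the number of fixed points of an element of order `p` of `M ∩ uMu`. -/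
theorem dvd_succ_fixed (hrp : r ≠ p) {u d : G} (hu : orderOf u = 2) (huM : u ∉ M) (hd : d ∈ M)
    (hud : u * d * u ∈ M) (hdo : orderOf d = p) :
    p ∣ 1 + Nat.card (Q ⊓ centralizer ({d} : Set G) : Subgroup G) := by
  classical
  haveI := Fact.mk R.hr
  haveI := Fact.mk D.H.hp
  set α := ((E : Subgroup G)).normalizerMonoidHom
  have hker : ∀ x : M, α x = 1 ↔ (x : G) ∈ Q := fun x => by
    rw [← MonoidHom.mem_ker, normalizerMonoidHom_ker, mem_subgroupOf]
  let cM : M := ⟨c, R.hcM⟩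
  have hcr : α cM ^ r = 1 := by
    rw [← map_pow, show cM ^ r = 1 from Subtype.ext (by simp [cM, ← R.hc, pow_orderOf_eq_one]), map_one]
  have hc1 : α cM ≠ 1 := fun h => by
    obtain ⟨z, hz, hz1⟩ := D.exists_ne_one
    exact hz1 (R.fpf z hz (E_comm ((hker cM).1 h) hz))
  have hco : orderOf (α cM) = r := orderOf_eq_prime hcr hc1
  -- the character
  have hψe : ∀ m : M, ∃ k : ℕ, α m * α cM * (α m)⁻¹ = α cM ^ k := by
    intro m
    obtain ⟨k, hk⟩ := R.uniq ((m : G) * c * (m : G)⁻¹)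
      (mul_mem (mul_mem m.2 R.hcM) (inv_mem m.2))
      (by rw [conj_pow, ← R.hc, pow_orderOf_eq_one, mul_one, mul_inv_cancel]; exact one_mem _)
    refine ⟨k, ?_⟩
    have h := (hker ((cM ^ k)⁻¹ * (m * cM * m⁻¹))).2 (by simpa [cM] using hk)
    rw [map_mul, map_inv, map_pow, map_mul, map_mul, map_inv, inv_mul_eq_one] at h
    exact h.symm
  choose κ hκ using hψe
  have hmod : ∀ a b : ℕ, α cM ^ a = α cM ^ b → (a : ZMod r) = b := fun a b h => by
    rw [ZMod.natCast_eq_natCast_iff, ← hco]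
    exact pow_eq_pow_iff_modEq.1 h
  let ψ0 : M →* ZMod r :=
    { toFun := fun m => (κ m : ZMod r)
      map_one' := by
        have := hmod (κ 1) 1 (by rw [← hκ, map_one, one_mul, inv_one, mul_one, pow_one])
        simpa using this
      map_mul' := fun a b => by
        rw [← Nat.cast_mul]
        refine hmod _ _ ?_
        rw [← hκ, map_mul, mul_inv_rev]
        calc α a * α b * α cM * ((α b)⁻¹ * (α a)⁻¹) = α a * (α b * α cM * (α b)⁻¹) * (α a)⁻¹ := by group
          _ = α cM ^ (κ a * κ b) := by rw [hκ b, ← conj_pow, hκ a, ← pow_mul] }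
  let ψ : M →* (ZMod r)ˣ := ψ0.toHomUnits
  have hψval : ∀ (m : M) (k : ℕ), α m * α cM * (α m)⁻¹ = α cM ^ k → (ψ m : ZMod r) = k :=
    fun m k h => by
      show (κ m : ZMod r) = k
      exact hmod _ _ (by rw [← hκ, h])
  have hψspec : ∀ (m : M) (k : ℕ), (ψ m : ZMod r) = k → α m * α cM * (α m)⁻¹ = α cM ^ k :=
    fun m k h => by
      change (κ m : ZMod r) = k at h
      rw [hκ, pow_eq_pow_iff_modEq, hco, ← ZMod.natCast_eq_natCast_iff, h]
  obtain ⟨g, hg, hug, hgo⟩ := D.exists_D_elem hu huM R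
  have hg1 : g ≠ 1 := fun h => by rw [h, orderOf_one] at hgo; exact R.hr.ne_one hgo.symm
  have hgr : g ^ r = 1 := by rw [← hgo, pow_orderOf_eq_one]
  have hgi : u * g * u = g⁻¹ := D.inverts hu huM R hg hug hgo
  -- transport between `c` and `g`
  obtain ⟨j, hj⟩ := R.uniq g hg (by rw [hgr]; exact one_mem _)
  have hαg : α ⟨g, hg⟩ = α cM ^ j := by
    rw [← map_pow, ← inv_mul_eq_one, ← map_inv, ← map_mul, hker]
    simpa [cM] using inv_mem hj
  have hrj : ¬ r ∣ j := fun ⟨i, hi⟩ => by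
    refine D.notQ hu huM R hg1 hug ((hker ⟨g, hg⟩).1 ?_)
    rw [hαg, hi, pow_mul, hcr, one_pow]
  have hDconj : ∀ v : G, v ∈ M → u * v * u ∈ M → ∃ i : ℕ, v * g * v⁻¹ = g ^ i := by
    intro v hv huv
    refine D.D_uniq hu huM R hg hug hgr hg1 (mul_mem (mul_mem hv hg) (inv_mem hv)) ?_
      (by rw [conj_pow, hgr, mul_one, mul_inv_cancel])
    have e : u * (v * g * v⁻¹) * u = (u * v * u) * (u * g * u) * (u * v * u)⁻¹ := by
      simp only [mul_inv_rev, Invol.inv_eq hu, mul_assoc, Invol.mul_self_cancel hu]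
    rw [e]
    exact mul_mem (mul_mem huv hug) (inv_mem huv)
  have hψD : ∀ (v : G) (hv : v ∈ M) (i : ℕ), v * g * v⁻¹ = g ^ i → (ψ ⟨v, hv⟩ : ZMod r) = i := by
    intro v hv i hi
    refine hψval _ _ ?_
    obtain ⟨m, -, hm⟩ := Nat.exists_mul_mod_eq_one_of_coprime
      ((R.hr.coprime_iff_not_dvd.2 hrj).symm) R.hr.one_lt
    have h1 : α cM = α ⟨g, hg⟩ ^ m := by
      rw [hαg, ← pow_mul, ← Nat.mod_add_div (j * m) r, hm, pow_add, pow_one, pow_mul, hcr, one_pow,
        mul_one]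
    have h2 : α ⟨v, hv⟩ * α ⟨g, hg⟩ * (α ⟨v, hv⟩)⁻¹ = α ⟨g, hg⟩ ^ i := by
      rw [← map_pow, ← map_inv, ← map_mul, ← map_mul]
      exact congrArg α (Subtype.ext (by simpa using hi))
    rw [h1, ← conj_pow, h2, ← pow_mul, ← pow_mul, mul_comm]
  -- `ψ d ≠ 1`
  have hψd : ψ ⟨d, hd⟩ ≠ 1 := by
    intro h
    obtain ⟨i, hi⟩ := hDconj d hd hud
    have h2 := hψD d hd i hi
    rw [h, Units.val_one] at h2
    have h3 : g ^ i = g := by
      conv_rhs => rw [← pow_one g]
      rw [pow_eq_pow_iff_modEq, hgo, ← ZMod.natCast_eq_natCast_iff, ← h2, Nat.cast_one]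
    rw [h3, mul_inv_eq_iff_eq_mul] at hi
    have := D.H.eq_p_of_commute hdo hi (hgo ▸ R.hr.odd_of_ne_two R.hr2)
      (by rw [hgo, Nat.prime_dvd_prime_iff_eq D.H.hp R.hr]; exact Ne.symm hrp)
    exact hg1 this
  have hψu : ψ ⟨u * d * u, hud⟩ = ψ ⟨d, hd⟩ := by
    obtain ⟨i, hi⟩ := hDconj d hd hud
    refine Units.ext ?_
    rw [hψD d hd i hi, hψD (u * d * u) hud i ?_]
    have h1 : u * d * u * g⁻¹ * (u * d * u)⁻¹ = (g ^ i)⁻¹ := by
      calc u * d * u * g⁻¹ * (u * d * u)⁻¹ = u * (d * (u * g⁻¹ * u) * d⁻¹) * u := by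
            simp only [mul_inv_rev, Invol.inv_eq hu, mul_assoc]
        _ = u * g ^ i * u := by
            have : u * g⁻¹ * u = g := by
              rw [← hgi]; simp only [mul_assoc, Invol.mul_self_cancel hu, Invol.inv_mul_self hu, mul_one]
            rw [this, hi]
        _ = (g ^ i)⁻¹ := by
            have h := conj_pow (a := u) (b := g) (i := i)
            rw [Invol.inv_eq hu, hgi] at h
            rw [← h, inv_pow]
    rw [← inv_inj, ← h1]; group
  -- the transfer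
  letI := Fintype.ofFinite (G ⧸ M)
  letI := Fintype.ofFinite (Quotient (MulAction.orbitRel (zpowers d) (G ⧸ M)))
  have htr : MonoidHom.transfer ψ d = 1 := by
    exact SmallGroups.DegThree.hom_eq_one D.not_comm _ _
  rw [MonoidHom.transfer_eq_prod_quotient_orbitRel_zpowers_quot] at htr
  have hdp : d ^ p = 1 := by rw [← hdo, pow_orderOf_eq_one]
  have hval : ∀ a : G, ∀ ha : a⁻¹ * d * a ∈ M, ψ ⟨a⁻¹ * d * a, ha⟩ = ψ ⟨d, hd⟩ := by
    intro a ha
    have hinv : ∀ (m : M) (b : G) (hb : b ∈ M) (hb' : (m : G)⁻¹ * b * m ∈ M),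
        ψ ⟨(m : G)⁻¹ * b * m, hb'⟩ = ψ ⟨b, hb⟩ := fun m b hb hb' => by
      rw [show (⟨(m : G)⁻¹ * b * m, hb'⟩ : M) = m⁻¹ * ⟨b, hb⟩ * m from Subtype.ext (by simp),
        map_mul, map_mul, mul_comm, ← mul_assoc, map_inv, mul_inv_cancel, one_mul]
    by_cases haM : a ∈ M
    · exact hinv ⟨a, haM⟩ d hd ha
    · obtain ⟨q, hq, hqa⟩ := D.Q_transitive R hrp hu huM (x := QuotientGroup.mk a)
        (fun h => haM (by simpa using inv_mem (QuotientGroup.eq.1 h)))
      rw [MulAction.Quotient.smul_coe, QuotientGroup.eq, smul_eq_mul] at hqa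
      set k : M := ⟨(q * u)⁻¹ * a, hqa⟩ with hk
      have he : (q * u)⁻¹ * d * (q * u) ∈ M := by
        have h := mul_mem (mul_mem hqa ha) (inv_mem hqa)
        convert h using 1; group
      have hd' : q⁻¹ * d * q ∈ M := mul_mem (mul_mem (inv_mem (Q_le hq)) hd) (Q_le hq)
      have hud' : u * (q⁻¹ * d * q) * u ∈ M := by
        convert he using 1
        simp only [mul_inv_rev, Invol.inv_eq hu, mul_assoc]
      have h1 : ψ ⟨a⁻¹ * d * a, ha⟩ = ψ ⟨(q * u)⁻¹ * d * (q * u), he⟩ := by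
        rw [← hinv k ((q * u)⁻¹ * d * (q * u)) he (by convert ha using 1; simp [hk]; group)]
        exact congrArg ψ (Subtype.ext (by simp [hk]; group))
      rw [h1, show (⟨(q * u)⁻¹ * d * (q * u), he⟩ : M) = ⟨u * (q⁻¹ * d * q) * u, hud'⟩ from
        Subtype.ext (by simp only [mul_inv_rev, Invol.inv_eq hu, mul_assoc])]
      obtain ⟨i, hi⟩ := hDconj _ hd' hud'
      have e1 : ψ ⟨q⁻¹ * d * q, hd'⟩ = ψ ⟨d, hd⟩ := hinv ⟨q, Q_le hq⟩ d hd hd'
      rw [← e1]
      -- the same computation as for `d`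
      refine Units.ext ?_
      rw [hψD _ hd' i hi, hψD _ hud' i ?_]
      have h2 : u * (q⁻¹ * d * q) * u * g⁻¹ * (u * (q⁻¹ * d * q) * u)⁻¹ = (g ^ i)⁻¹ := by
        generalize q⁻¹ * d * q = v at hi
        calc u * v * u * g⁻¹ * (u * v * u)⁻¹ = u * (v * (u * g⁻¹ * u) * v⁻¹) * u := by
              simp only [mul_inv_rev, Invol.inv_eq hu, mul_assoc]
          _ = u * g ^ i * u := by
              have : u * g⁻¹ * u = g := by
                rw [← hgi]; simp only [mul_assoc, Invol.mul_self_cancel hu, Invol.inv_mul_self hu, mul_one]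
              rw [this, hi]
          _ = (g ^ i)⁻¹ := by
              have h := conj_pow (a := u) (b := g) (i := i)
              rw [Invol.inv_eq hu, hgi] at h
              rw [← h, inv_pow]
      rw [← inv_inj, ← h2]; group
  set Fq := Finset.univ.filter
    (fun q : Quotient (MulAction.orbitRel (zpowers d) (G ⧸ M)) => d • q.out = q.out) with hFq
  have hprod : ψ ⟨d, hd⟩ ^ Fq.card = 1 := by
    rw [← htr, ← Finset.prod_const, Finset.prod_filter]
    refine Finset.prod_congr rfl fun q _ => ?_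
    split_ifs with hq
    · rw [← hval q.out.out (by
          have := hq
          rw [← QuotientGroup.out_eq' q.out, smul_eq_self_iff] at this
          exact this)]
      congr 1
      refine Subtype.ext ?_
      show q.out.out⁻¹ * d * q.out.out = q.out.out⁻¹ * d ^ Function.minimalPeriod (d • ·) q.out * q.out.out
      have h1 : Function.minimalPeriod (d • ·) q.out = 1 :=
        Function.minimalPeriod_eq_one_iff_isFixedPt.2 hq
      rw [h1, pow_one]
    · have h1 : Function.minimalPeriod (d • ·) q.out = p := by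
        refine Function.minimalPeriod_eq_prime ?_ hq
        show (d • ·)^[p] q.out = q.out
        rw [smul_iterate]
        simp [hdp]
      refine (map_one ψ).symm.trans (congrArg ψ (Subtype.ext ?_))
      show (1 : G) = q.out.out⁻¹ * d ^ Function.minimalPeriod (d • ·) q.out * q.out.out
      rw [h1, hdp, mul_one, inv_mul_cancel]
  have hψo : orderOf (ψ ⟨d, hd⟩) = p := orderOf_eq_prime
    (by rw [← map_pow, ← map_one ψ]; exact congrArg ψ (Subtype.ext (by simpa using hdp))) hψd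
  have hdvd : p ∣ Fq.card := hψo ▸ orderOf_dvd_of_pow_eq_one hprod
  convert hdvd using 1
  -- counting the fixed points
  have hfix : Fq.card = Nat.card {x : G ⧸ M // d • x = x} := by
    rw [hFq, ← Fintype.card_subtype, ← Nat.card_eq_fintype_card]
    refine Nat.card_congr (Equiv.ofBijective (fun q => ⟨q.1.out, q.2⟩) ⟨fun a b h => ?_, fun x => ?_⟩)
    · exact Subtype.ext (Quotient.out_injective (congrArg Subtype.val h))
    · have hst : zpowers d ≤ MulAction.stabilizer G x.1 := zpowers_le.2 x.2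
      set q : Quotient (MulAction.orbitRel (zpowers d) (G ⧸ M)) := Quotient.mk'' x.1
      have hrel : q.out = x.1 := by
        have h := Quotient.mk_out' (s₁ := MulAction.orbitRel (zpowers d) (G ⧸ M)) x.1
        rw [MulAction.orbitRel_apply] at h
        obtain ⟨⟨a, ha⟩, hax⟩ := h
        rw [← hax]
        exact hst ha
      exact ⟨⟨q, by rw [hrel]; exact x.2⟩, Subtype.ext hrel⟩
  rw [hfix]
  let x0 : G ⧸ M := QuotientGroup.mk 1
  have hdx0 : d • x0 = x0 := smul_one_eq_self_iff.2 hd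
  have hdx1 : d • (QuotientGroup.mk u : G ⧸ M) = QuotientGroup.mk u := by
    rw [smul_eq_self_iff, Invol.inv_eq hu]; exact hud
  rw [Nat.card_congr (Equiv.sumCompl (fun x : {x : G ⧸ M // d • x = x} => x.1 = x0)).symm,
    Nat.card_sum]
  congr 1
  · symm
    rw [Nat.card_eq_one_iff_exists]
    exact ⟨⟨⟨x0, hdx0⟩, rfl⟩, fun y => Subtype.ext (Subtype.ext y.2)⟩
  · refine Nat.card_congr (Equiv.ofBijective
      (fun q => ⟨⟨q.1 • (QuotientGroup.mk u : G ⧸ M), ?_⟩,
        D.smul_mk_ne huM (Q_le q.2.1)⟩) ⟨fun a b h => ?_, fun x => ?_⟩)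
    · rw [← mul_smul, ← mem_centralizer_singleton_iff.1 q.2.2, mul_smul, hdx1]
    · exact Subtype.ext (D.Q_semiregular hu huM a.2.1 b.2.1
        (congrArg Subtype.val (congrArg Subtype.val h)))
    · obtain ⟨q, hq, hqx⟩ := D.Q_transitive R hrp hu huM (x := x.1.1) x.2
      refine ⟨⟨q, hq, mem_centralizer_singleton_iff.2 ?_⟩, Subtype.ext (Subtype.ext hqx)⟩
      have h1 : (d * q * d⁻¹) • (QuotientGroup.mk u : G ⧸ M) = q • QuotientGroup.mk u := by
        rw [hqx, mul_smul, inv_smul_eq_iff.2 hdx1.symm, mul_smul, hqx]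
        exact x.1.2
      have h2 := D.Q_semiregular hu huM (D.conj_mem_Q hd hq) hq h1
      rw [mul_inv_eq_iff_eq_mul] at h2
      exact h2.symm

end Ctx

end Cfsg.Agent.H73.TwoP
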