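import Cfsg.Agent.H73.TwoP.Basic
import Cfsg.Agent.SmallGroups.Basic

/-!
# Strong embedding with an elementary abelian Sylow 2-subgroup
-/

set_option autoImplicit false

namespace Cfsg.Agent.H73.TwoP

open Subgroup

variable {G : Type*} [Group G] [Finite G] {p : ℕ}

theorem Hyp.orderOf_mem (H : Hyp G p) {E : Sylow 2 G} {e : G} (he : e ∈ (E : Subgroup G))
    (h1 : e ≠ 1) : orderOf e = 2 :=
  Invol.orderOf_eq_two (H.mul_self_of_mem_pGroup E.2 he) h1

/-- A subgroup containing `N(E)` and the centralisers of the involutions of `E`. -/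
structure SESetting (E : Sylow 2 G) (M : Subgroup G) : Prop where
  hNM : normalizer ((E : Subgroup G) : Set G) ≤ M
  hCM : ∀ t ∈ (E : Subgroup G), t ≠ 1 → centralizer ({t} : Set G) ≤ M
  hM : M ≠ ⊤

namespace SESetting

variable {E : Sylow 2 G} {M : Subgroup G} (D : SESetting E M)
include D

theorem sylow_le : (E : Subgroup G) ≤ M := Subgroup.le_normalizer.trans D.hNM

/-- Every involution of `M` is conjugate in `M` to an element of `E`. -/
theorem exists_conj_mem {t : G} (ht : orderOf t = 2) (htM : t ∈ M) :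
    ∃ m ∈ M, m * t * m⁻¹ ∈ (E : Subgroup G) := by
  haveI : Fact (Nat.Prime 2) := ⟨Nat.prime_two⟩
  have hP : IsPGroup 2 (zpowers (⟨t, htM⟩ : M)) := IsPGroup.of_card (n := 1)
    (by rw [Nat.card_zpowers, ← Subgroup.orderOf_coe, pow_one]; exact ht)
  obtain ⟨S, hS⟩ := hP.exists_le_sylow
  obtain ⟨m, hm⟩ := MulAction.exists_smul_eq M S (E.subtype D.sylow_le)
  refine ⟨m, m.2, ?_⟩
  have h1 : MulAut.conj m (⟨t, htM⟩ : M) ∈ ((m • S : Sylow 2 M) : Subgroup M) :=
    Subgroup.smul_mem_pointwise_smul _ (MulAut.conj m) _ (hS (mem_zpowers _))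
  rw [hm, Sylow.coe_subtype, mem_subgroupOf] at h1
  simpa using h1

theorem mem_of_conj (H : Hyp G p) {g t : G} (ht : orderOf t = 2) (htM : t ∈ M)
    (hg : g⁻¹ * t * g ∈ M) : g ∈ M := by
  haveI : Fact (Nat.Prime 2) := ⟨Nat.prime_two⟩
  obtain ⟨m1, hm1, h1⟩ := D.exists_conj_mem ht htM
  have ht' : orderOf (g⁻¹ * t * g) = 2 := by
    have := Invol.orderOf_conj g⁻¹ t
    rwa [inv_inv, ht] at this
  obtain ⟨m2, hm2, h2⟩ := D.exists_conj_mem ht' hg
  haveI : IsMulCommutative (E : Subgroup G) :=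
    ⟨⟨fun a b => Subtype.ext (H.commute_of_mem_pGroup E.2 a.2 b.2)⟩⟩
  obtain ⟨n, hn, hne⟩ := E.conj_eq_normalizer_conj_of_mem (m1 * t * m1⁻¹) (m1 * g * m2⁻¹) h1
    (by
      have e : (m1 * g * m2⁻¹)⁻¹ * (m1 * t * m1⁻¹) * (m1 * g * m2⁻¹) = m2 * (g⁻¹ * t * g) * m2⁻¹ := by group
      rw [e]; exact h2)
  have hc : m1 * g * m2⁻¹ * n⁻¹ ∈ centralizer ({m1 * t * m1⁻¹} : Set G) := by
    rw [mem_centralizer_singleton_iff]
    have e1 := congrArg (fun x => n * x * n⁻¹) hne
    simp only [mul_assoc, mul_inv_cancel_left, mul_inv_cancel, mul_one] at e1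
    calc m1 * g * m2⁻¹ * n⁻¹ * (m1 * t * m1⁻¹)
        = m1 * g * m2⁻¹ * n⁻¹ * (n * ((m1 * g * m2⁻¹)⁻¹ * (m1 * t * m1⁻¹) * (m1 * g * m2⁻¹)) * n⁻¹) := by
          congr 1; simp only [mul_assoc] at e1 ⊢; exact e1.symm
      _ = m1 * t * m1⁻¹ * (m1 * g * m2⁻¹ * n⁻¹) := by group
  have h3 := D.hCM _ h1 (fun h => by
    rw [← Invol.orderOf_conj m1 t, h, orderOf_one] at ht; omega) hc
  have h4 := mul_mem (mul_mem (inv_mem hm1) h3) (mul_mem (D.hNM hn) hm2)
  simpa [mul_assoc] using h4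

variable (H : Hyp G p)
include H

theorem isSE (hne : (E : Subgroup G) ≠ ⊥) : Cfsg.IsStronglyEmbedded M := by
  refine Invol.isStronglyEmbedded_of_forall D.hM ?_ fun g t ht htM hg => D.mem_of_conj H ht htM hg
  obtain ⟨k, hk⟩ := E.2.exists_card_eq
  have h2 : 1 < Nat.card (E : Subgroup G) := one_lt_card_iff_ne_bot _ |>.2 hne
  refine even_iff_two_dvd.2 (dvd_trans ?_ (card_dvd_of_le D.sylow_le))
  rw [hk] at h2 ⊢
  exact dvd_pow_self 2 (by rintro rfl; simp at h2)

/-- The product of an involution of `M` and one outside has odd order. -/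
theorem odd_mul {z v : G} (hz : orderOf z = 2) (hzM : z ∈ M) (hv : orderOf v = 2) (hvM : v ∉ M) :
    Odd (orderOf (z * v)) := by
  rw [← Nat.not_even_iff_odd]
  intro he
  obtain ⟨h1, h2⟩ := Invol.commute_pow_half hz hv he
  set u := (z * v) ^ (orderOf (z * v) / 2)
  have hu : orderOf u = 2 := Invol.pow_half_eq_two (orderOf_pos _) he
  have huM : u ∈ M := D.mem_of_conj H hz hzM (by
    rw [mul_assoc, ← h1.eq, inv_mul_cancel_left]; exact hzM)
  exact hvM (D.mem_of_conj H hu huM (by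
    rw [mul_assoc, h2.eq, inv_mul_cancel_left]; exact huM))

/-- `N(E)` is transitive on the involutions of `E`. -/
theorem transitive [IsSimpleGroup G] {x y : G} (hx : x ∈ (E : Subgroup G))
    (hy : y ∈ (E : Subgroup G)) (hx1 : x ≠ 1) (hy1 : y ≠ 1) :
    ∃ g ∈ normalizer ((E : Subgroup G) : Set G), g * x * g⁻¹ = y := by
  haveI : Fact (Nat.Prime 2) := ⟨Nat.prime_two⟩
  have hxo := H.orderOf_mem hx hx1
  have hyo := H.orderOf_mem hy hy1
  obtain ⟨v, hv, hvM⟩ : ∃ v : G, orderOf v = 2 ∧ v ∉ M := by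
    by_contra hcon
    push Not at hcon
    have hn : Subgroup.normalClosure ({x} : Set G) ≤ M := by
      refine (Subgroup.closure_le _).2 ?_
      intro w hw
      rw [Group.mem_conjugatesOfSet_iff] at hw
      obtain ⟨_, rfl, hc⟩ := hw
      exact hcon w (by rw [← Invol.orderOf_eq_of_isConj hc]; exact hxo)
    rcases (Subgroup.normalClosure_normal (s := ({x} : Set G))).eq_bot_or_eq_top with h | h
    · exact hx1 (mem_bot.1 (h ▸ Subgroup.subset_normalClosure rfl))
    · exact D.hM (top_le_iff.1 (h ▸ hn))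
  have h1 := Invol.isConj_of_odd hxo hv (D.odd_mul H hxo (D.sylow_le hx) hv hvM)
  have h2 := Invol.isConj_of_odd hyo hv (D.odd_mul H hyo (D.sylow_le hy) hv hvM)
  obtain ⟨g, hg⟩ := isConj_iff.1 (h1.trans h2.symm)
  haveI : IsMulCommutative (E : Subgroup G) :=
    ⟨⟨fun a b => Subtype.ext (H.commute_of_mem_pGroup E.2 a.2 b.2)⟩⟩
  obtain ⟨n, hn, hne⟩ := E.conj_eq_normalizer_conj_of_mem x g⁻¹ hx (by rwa [inv_inv, hg])
  exact ⟨n⁻¹, inv_mem hn, by rw [inv_inv]; rw [inv_inv] at hne; rw [← hne, hg]⟩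

/-- An element of order `p` centralizing a four-subgroup of `E` has centralizer in `M`. -/
theorem centralizer_le_of_two {x a b : G} (hx : orderOf x = p) (ha : a ∈ (E : Subgroup G))
    (hb : b ∈ (E : Subgroup G)) (ha1 : a ≠ 1) (hb1 : b ≠ 1) (hab : a ≠ b)
    (hxa : x * a = a * x) (hxb : x * b = b * x) :
    centralizer ({x} : Set G) ≤ M := by
  haveI : Fact (Nat.Prime 2) := ⟨Nat.prime_two⟩
  set C := centralizer ({x} : Set G)
  haveI hsol : Group.IsSolvable C := H.isSolvable_centralizer (Or.inr hx)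
  set F := closure ({a, b} : Set G)
  have hFE : F ≤ (E : Subgroup G) := (closure_le _).2 (by
    rintro y (rfl | rfl) <;> assumption)
  have hFC : F ≤ C := (closure_le _).2 (by
    rintro y (rfl | rfl)
    · exact mem_centralizer_singleton_iff.2 hxa.symm
    · exact mem_centralizer_singleton_iff.2 hxb.symm)
  have hFp : IsPGroup 2 F := E.2.to_le hFE
  obtain ⟨S, hS⟩ := (hFp.of_equiv (subgroupOfEquivOfLe hFC).symm).exists_le_sylow
  set S' := (S : Subgroup C).map C.subtype with hS'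
  have hS'p : IsPGroup 2 S' := S.2.map _
  have hFS : F ≤ S' := fun f hf => ⟨⟨f, hFC hf⟩, hS (mem_subgroupOf.2 hf), rfl⟩
  have haF : a ∈ F := subset_closure (Or.inl rfl)
  have hbF : b ∈ F := subset_closure (Or.inr rfl)
  have hao := H.orderOf_mem ha ha1
  have hSM : S' ≤ M := fun s hs => D.hCM a ha ha1
    (mem_centralizer_singleton_iff.2 (H.commute_of_mem_pGroup hS'p hs (hFS haF)).eq)
  have hEne : (E : Subgroup G) ≠ ⊥ := fun h => ha1 (mem_bot.1 (h ▸ ha))
  have hN : normalizer (S' : Set G) ≤ M :=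
    Invol.IsStronglyEmbedded.normalizer_le (D.isSE H hEne) hSM
      (even_iff_two_dvd.2 (hao ▸ Subgroup.orderOf_dvd_natCard _ (hFS haF)))
  have hScomm : IsMulCommutative (S : Subgroup C) :=
    ⟨⟨fun s1 s2 => Subtype.ext (Subtype.ext
      (H.commute_of_mem_pGroup hS'p (mem_map_of_mem C.subtype s1.2) (mem_map_of_mem C.subtype s2.2)))⟩⟩
  have hFc : IsMulCommutative F :=
    ⟨⟨fun f g => Subtype.ext (H.commute_of_mem_pGroup hFp f.2 g.2)⟩⟩
  have hFnc : ¬ IsCyclic F := by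
    intro hc
    obtain ⟨g, hg⟩ := hc.exists_generator
    have hgg : g * g = 1 := Subtype.ext (H.mul_self_of_mem_pGroup hFp g.2)
    have key : ∀ y : F, y = 1 ∨ y = g := by
      intro y
      obtain ⟨k, rfl⟩ := mem_zpowers_iff.1 (hg y)
      rcases Int.even_or_odd k with ⟨j, rfl⟩ | ⟨j, rfl⟩
      · left; rw [← two_mul, zpow_mul, zpow_two, hgg, one_zpow]
      · right; rw [zpow_add, zpow_mul, zpow_two, hgg, one_zpow, one_mul, zpow_one]
    rcases key ⟨a, haF⟩ with h | h
    · exact ha1 (congrArg Subtype.val h)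
    rcases key ⟨b, hbF⟩ with h' | h'
    · exact hb1 (congrArg Subtype.val h')
    · exact hab (congrArg Subtype.val (h.trans h'.symm))
  have hO : core C ≤ M := by
    rw [← Coprime.iSup_centralizer_eq hFnc (hFC.trans (le_normalizer_core C)) (by
      obtain ⟨k, hk⟩ := hFp.exists_card_eq
      rw [hk]
      exact (Nat.coprime_two_left.2 (odd_card_core C)).pow_left k)]
    exact iSup₂_le fun f hf => inf_le_right.trans (D.hCM f (hFE hf.1) hf.2)
  exact (le_core_sup S hScomm).trans (sup_le hO (inf_le_right.trans hN))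

end SESetting

end Cfsg.Agent.H73.TwoP
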